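import Cfsg.Agent.Cit.Nil.RI.TSFour
import Cfsg.Agent.Cit.Nil.IndDefs
import Cfsg.Agent.Lib.Cores

/-!
# S1309, node (n5): `r = 4`, type I pairs, `m ≥ 2` (NIL or not): the world, the multipartite lemma

Text: `blueprints/R18-6b-n5-helper449.md`.

* `CC Om z t` : `(z, t)` is a C-pair of elements of `Z`;
* `TB Om` : `WM Om`, type I partners, (B2), (B3), TSB (section 1 of the text);
* `OmC Om e`, `OT e`, `TPr Om` : `T'` for all centralisers of involutions;
* `TPr.mp` : (MP): the C-relation on the C-partners of `a` is complete multipartite;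
* `Eqv`, `EQ`, `TPr.eq_of_three` : (EQ) in the presence of 3-cliques.
-/

set_option autoImplicit false
set_option linter.style.haveILetI false
set_option linter.unusedSectionVars false

namespace Cfsg.Agent.Cit.Nil.CompFour

open Subgroup Cfsg Cfsg.Agent.Cit Cfsg.Agent.Cit.Nil.RI Cfsg.Agent.Cit.Nil.IndDefs

open RG (WR CP Ov)

variable {G : Type*} [Group G]

/-- C-pair of elements of `Z` -/
def CC (Om : Set (Subgroup G)) (z t : G) : Prop := InZ Om z ∧ InZ Om t ∧ CP Om z t

/-- blocks: section 1 -/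
structure TB (Om : Set (Subgroup G)) : Prop where
  w : WM Om
  ti : ∀ z, InZ Om z → ∃ t, TI Om z t
  /-- (B2) -/
  f1 : ∀ x u, InZ Om x → InZ Om u → ¬ CP Om u (x * u * x⁻¹)
  /-- (B3) -/
  two : ∀ P : Subgroup G, IsPGroup 2 P → ∀ x ∈ P, ∀ u ∈ P, InZ Om x → InZ Om u → Blk Om x u ∨ CP Om x u
  /-- TSB -/
  tsb : ∀ s x, InZ Om s → InZ Om x → s * x = x * s → s ≠ x → Blk Om s x →
    ∃ c, Blk Om s c ∧ s * x ∈ RZ Om c ∧ ∃ K, Mem Om c K ∧ ∀ k ∈ K, s * x * k = k * (s * x)

/-- the members in `C(e)` -/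
def OmC (Om : Set (Subgroup G)) (e : G) : Set (Subgroup G) := {K | K ∈ Om ∧ K ≤ centralizer {e}}

/-- `O_2(C(e))` -/
def OT (e : G) : Subgroup G := (Cfsg.pCore 2 ↥(centralizer ({e} : Set G))).map (centralizer ({e} : Set G)).subtype

theorem OT_two (e : G) [Finite G] : IsPGroup 2 (OT e) := (Lib.Cores.pCore_isPGroup 2).map _

theorem OT_norm (e : G) : centralizer {e} ≤ normalizer (OT e : Set G) := by
  intro g hg
  have h1 : ∀ g : ↥(centralizer ({e} : Set G)), ∀ x ∈ OT e, (g : G) * x * (g : G)⁻¹ ∈ OT e := by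
    rintro g _ ⟨x, hx, rfl⟩
    have := (Lib.Cores.pCore_normal 2 (G := ↥(centralizer ({e} : Set G)))).conj_mem x hx g
    exact ⟨_, this, rfl⟩
  rw [mem_normalizer_iff]
  intro x
  refine ⟨h1 ⟨g, hg⟩ x, fun hx => ?_⟩
  have h2 := h1 ⟨g, hg⟩⁻¹ _ hx
  have h3 : g⁻¹ * (g * x * g⁻¹) * g⁻¹⁻¹ = x := by group
  have h4 : ((⟨g, hg⟩⁻¹ : ↥(centralizer ({e} : Set G))) : G) = g⁻¹ := rfl
  rwa [h4, h3] at h2

/-- `T'` for the centralisers of involutions -/
def TPr (Om : Set (Subgroup G)) : Prop := ∀ e : G, e * e = 1 → e ≠ 1 → ∀ K ∈ OmC Om e,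
  zz K ∈ OT e ∨ ONE (OmC Om e) K

variable {Om : Set (Subgroup G)} {K L M N P : Subgroup G} {a b c d e s t u v x y z g h' p k w' : G}

/-! ### C-pairs -/

namespace CC

theorem symm (h : CC Om z t) : CC Om t z := ⟨h.2.1, h.1, h.2.2.symm⟩

theorem ne (h : CC Om z t) : z ≠ t := h.2.2.1

variable (w : TB Om)

include w

theorem conj [Finite G] (h : CC Om z t) (g : G) : CC Om (g * z * g⁻¹) (g * t * g⁻¹) :=
  ⟨h.1.conj w.w g, h.2.1.conj w.w g, cp_conj w.w h.2.2 g⟩

theorem comm [Finite G] (h : CC Om z t) : z * t = t * z := cp_comm w.w h.1 h.2.1 h.2.2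

theorem rz [Finite G] (h : CC Om z t) (hx : x ∈ RZ Om z) (hy : y ∈ RZ Om t) : x * y = y * x := cp_RZ w.w h.2.2 hx hy

/-- `z` centralises `R_t` -/
theorem z_rz [Finite G] (h : CC Om z t) (hy : y ∈ RZ Om t) : z * y = y * z := h.rz w (z_mem_RZ h.1 w.w) hy

theorem cm [Finite G] (h : CC Om z t) (hK : Mem Om z K) (hL : Mem Om t L) : Cm K L := fun _ hk _ hl =>
  h.rz w (hK.le_RZ hk) (hL.le_RZ hl)

theorem blk [Finite G] (h : CC Om z t) (hb : Blk Om z x) : CC Om x t :=
  ⟨hb.inZ h.1, h.2.1, cp_blk w.w h.2.1 h.2.2 hb⟩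

theorem blk' [Finite G] (h : CC Om z t) (hb : Blk Om t x) : CC Om z x := (h.symm.blk w hb).symm

theorem not_blk [Finite G] (h : CC Om z t) : ¬ Blk Om z t := fun hb => not_cp_blk w.w h.2.1 hb h.2.2

theorem not_ti [Finite G] (h : CC Om z t) : ¬ TI Om z t := fun hb => h.not_blk w hb.blk

/-- an element of `Z` centralising a member -/
theorem of_cent [Finite G] (hK : Mem Om z K) (ht : InZ Om t) (hne : z ≠ t) (hc : ∀ k ∈ K, t * k = k * t) : CC Om z t :=
  ⟨hK.inZ, ht, w.w.wr.CP_of_cen hK hc hne⟩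

theorem of_cm [Finite G] (hK : Mem Om z K) (hL : Mem Om t L) (hne : z ≠ t) (hc : Cm K L) : CC Om z t :=
  of_cent w hK hL.inZ hne fun k hk => (hc k hk t (hL.zmem w.w)).symm

theorem conj_iff [Finite G] (g : G) : CC Om (g * z * g⁻¹) (g * t * g⁻¹) ↔ CC Om z t := by
  refine ⟨fun h => ?_, fun h => h.conj w g⟩
  have h1 := h.conj w g⁻¹
  have e : ∀ x : G, g⁻¹ * (g * x * g⁻¹) * g⁻¹⁻¹ = x := fun x => by group
  rwa [e, e] at h1

theorem le_cent [Finite G] (h : CC Om z t) (hL : Mem Om t L) : L ≤ centralizer {z} := fun l hl => by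
  rw [mem_centralizer_singleton_iff]
  exact (h.z_rz w (hL.le_RZ hl)).symm

theorem mem_OmC [Finite G] (h : CC Om z t) (hL : Mem Om t L) : L ∈ OmC Om z := ⟨hL.1, h.le_cent w hL⟩

end CC

namespace TB

variable [Finite G] (w : TB Om)

include w

/-- commuting elements of `Z` -/
theorem cases (hx : InZ Om x) (hs : InZ Om s) (hxs : x * s = s * x) : CC Om x s ∨ Blk Om x s := by
  rcases RI.cases w.w w.ti hx hs hxs with h1 | h1
  · exact Or.inl ⟨hx, hs, h1⟩
  · exact Or.inr h1

/-- elements of `Z` in a 2-group -/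
theorem cases_two (hP : IsPGroup 2 P) (hxP : x ∈ P) (huP : u ∈ P) (hx : InZ Om x) (hu : InZ Om u) :
    CC Om x u ∨ Blk Om x u := by
  rcases w.two P hP x hxP u huP hx hu with h1 | h1
  · exact Or.inr h1
  · exact Or.inl ⟨hx, hu, h1⟩

theorem not_swap (hx : InZ Om x) (hu : InZ Om u) : ¬ CC Om u (x * u * x⁻¹) := fun h => w.f1 x u hx hu h.2.2

/-- members over the elements of a type I pair do not commute -/
theorem not_cm (hti : TI Om u v) (hK : Mem Om u K) (hL : Mem Om v L) : ¬ Cm K L := fun h =>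
  hti.nc hK fun k hk => (h k hk v (hL.zmem w.w)).symm

theorem adj (hti : TI Om u v) (hK : Mem Om u K) (hL : Mem Om v L) (hKe : K ∈ OmC Om e) (hLe : L ∈ OmC Om e) :
    Adj (OmC Om e) K L := ⟨hKe, hLe, w.not_cm hti hK hL⟩

/-- the members over a C-partner lie in one component -/
theorem comp_same (hau : CC Om a u) (hK : Mem Om u K) (hL : Mem Om u L) : L ∈ comp (OmC Om a) K := by
  obtain ⟨v, hv⟩ := w.ti u hau.2.1
  obtain ⟨M, hM⟩ := hv.inT
  have hav : CC Om a v := hau.blk' w hv.blk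
  refine mem_comp_of (mem_comp_of mem_comp_self (w.adj hv hK hM (hau.mem_OmC w hK) (hav.mem_OmC w hM))) ?_
  exact (w.adj hv hL hM (hau.mem_OmC w hL) (hav.mem_OmC w hM)).symm

end TB

theorem comp_sub' (hK : K ∈ OmC Om e) (hL : L ∈ comp (OmC Om e) K) : L ∈ OmC Om e := comp_sub hK hL

/-- the members outside the component commute with the component -/
theorem cm_of_not_comp {A : Set (Subgroup G)} (hL : L ∈ comp A K) (hK : K ∈ A) (hM : M ∈ A) (hn : M ∉ comp A K) :
    Cm L M := by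
  by_contra hc
  exact hn (mem_comp_of hL ⟨comp_sub hK hL, hM, hc⟩)

theorem one_comp {A : Set (Subgroup G)} (h : ONE A K) (hL : L ∈ comp A K) : ONE A L := by
  unfold ONE at h ⊢
  rwa [comp_eq hL]

section tp

variable [Finite G] (w : TB Om) (tp : TPr Om)

include w tp

omit tp in
/-- a C-pair and a type I partner in a component which is `ONE` -/
theorem false_of_one (hone : ONE (OmC Om e) K) (hL : L ∈ comp (OmC Om e) K)
    (hM : M ∈ comp (OmC Om e) K) (hN : N ∈ comp (OmC Om e) K) (hLa : Mem Om a L) (hMb : Mem Om b M) (hNc : Mem Om c N)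
    (hab : CC Om a b) (hbc : TI Om b c) : False := by
  have h1 := hone L hL M hM (hab.cm w hLa hMb) N hN
  rw [hLa.2, hMb.2] at h1
  have hac : CC Om a c := hab.blk' w hbc.blk
  refine (hbc.symm w.w).nc hNc fun k hk => ?_
  have h2 := h1 k hk
  have h3 : a * k = k * a := hac.z_rz w (hNc.le_RZ hk)
  have h4 : a * b = b * a := hab.comm w
  calc b * k = a⁻¹ * (a * b * k) := by group
    _ = a⁻¹ * (k * (a * b)) := by rw [h2]
    _ = a⁻¹ * (k * a) * b := by group
    _ = a⁻¹ * (a * k) * b := by rw [h3]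
    _ = k * b := by group

/-- **(2.2)** -/
theorem TPr.not_cc (hau : CC Om a u) (hav : CC Om a v) (hK : Mem Om u K) (hL : Mem Om v L)
    (hc : L ∈ comp (OmC Om a) K) : ¬ CC Om u v := by
  intro huv
  have haa := hau.1.z2 w.w
  have ha1 := hau.1.z1 w.w
  have hKA := hau.mem_OmC w hK
  by_cases hone : ONE (OmC Om a) K
  · obtain ⟨v', hv'⟩ := w.ti v hav.2.1
    obtain ⟨M, hM⟩ := hv'.inT
    have hav' : CC Om a v' := hav.blk' w hv'.blk
    have hMc : M ∈ comp (OmC Om a) K :=
      mem_comp_of hc (w.adj hv' hL hM (hav.mem_OmC w hL) (hav'.mem_OmC w hM))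
    exact false_of_one w hone mem_comp_self hc hMc hK hL hM huv hv'
  · have hnil : ∀ M ∈ comp (OmC Om a) K, zz M ∈ OT a := by
      intro M hM
      rcases tp a haa ha1 M (comp_sub hKA hM) with h1 | h1
      · exact h1
      · exact (hone (one_comp h1 (comp_symm hM))).elim
    have key : ∀ M ∈ comp (OmC Om a) K, Blk Om (zz K) (zz M) := by
      intro M hM
      have hM' := hM
      unfold comp at hM'
      rw [Set.mem_ofPred_eq] at hM'
      induction hM' with
      | refl => exact Blk.refl _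
      | @tail M N h1 h2 ih =>
        have h3 := ih h1
        have hMm : Mem Om (zz M) M := ⟨h2.1.1, rfl⟩
        have hNm : Mem Om (zz N) N := ⟨h2.2.1.1, rfl⟩
        rcases w.cases_two (OT_two a) (hnil M h1) (hnil N hM) hMm.inZ hNm.inZ with h4 | h4
        · exact (h2.2.2 (h4.cm w hMm hNm)).elim
        · exact h3.trans h4
    have h1 := key L hc
    rw [hK.2, hL.2] at h1
    exact huv.not_blk w h1

omit tp in
/-- **(2.3)** -/
theorem comp_or_cc (hau : CC Om a u) (hav : CC Om a v) (hK : Mem Om u K) (hL : Mem Om v L) :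
    L ∈ comp (OmC Om a) K ∨ CC Om u v := by
  by_cases hc : L ∈ comp (OmC Om a) K
  · exact Or.inl hc
  right
  have h1 : Cm K L := cm_of_not_comp mem_comp_self (hau.mem_OmC w hK) (hav.mem_OmC w hL) hc
  refine CC.of_cm w hK hL ?_ h1
  rintro rfl
  exact hc (w.comp_same hau hK hL)

/-- **(MP)** -/
theorem TPr.mp (hau : CC Om a u) (hav : CC Om a v) (hab : CC Om a b) (hub : CC Om u b) : CC Om u v ∨ CC Om v b := by
  obtain ⟨K, hK⟩ := hau.2.1
  obtain ⟨L, hL⟩ := hav.2.1
  obtain ⟨M, hM⟩ := hab.2.1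
  rcases comp_or_cc w hau hav hK hL with h1 | h1
  · rcases comp_or_cc w hav hab hL hM with h2 | h2
    · exact (TPr.not_cc w tp hau hab hK hM (comp_trans h1 h2) hub).elim
    · exact Or.inr h2
  · exact Or.inl h1

end tp

/-! ### (EQ) -/

/-- the same C-partners -/
def Eqv (Om : Set (Subgroup G)) (z x : G) : Prop := ∀ b, CC Om z b ↔ CC Om x b

namespace Eqv

theorem refl (z : G) : Eqv Om z z := fun _ => Iff.rfl
theorem symm (h : Eqv Om z x) : Eqv Om x z := fun b => (h b).symm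
theorem trans (h : Eqv Om z x) (h' : Eqv Om x y) : Eqv Om z y := fun b => (h b).trans (h' b)

theorem not_cc (h : Eqv Om z x) : ¬ CC Om z x := fun h1 => ((h x).1 h1).ne rfl

theorem conj [Finite G] (w : TB Om) (h : Eqv Om z x) (g : G) : Eqv Om (g * z * g⁻¹) (g * x * g⁻¹) := by
  intro b
  have e : b = g * (g⁻¹ * b * g) * g⁻¹ := by group
  rw [e, CC.conj_iff w, CC.conj_iff w]
  exact h _

theorem of_blk [Finite G] (w : TB Om) (h : Blk Om z x) : Eqv Om z x := fun _ =>
  ⟨fun h1 => h1.blk w h, fun h1 => h1.blk w (h.symm w.w)⟩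

/-- members of the class and C-partners -/
theorem cc_left (h : Eqv Om z x) (h' : CC Om z b) : CC Om x b := (h b).1 h'

theorem cc_right (h : Eqv Om z x) (h' : CC Om b z) : CC Om b x := ((h b).1 h'.symm).symm

end Eqv

/-- **(EQ)** -/
def EQ (Om : Set (Subgroup G)) : Prop := ∀ z a x, CC Om z a → CC Om x a → CC Om z x ∨ Eqv Om z x

/-- (EQ) in the presence of 3-cliques -/
theorem TPr.eq_of_three [Finite G] (w : TB Om) (tp : TPr Om)
    (h3 : ∀ z, InZ Om z → ∃ b c, CC Om z b ∧ CC Om z c ∧ CC Om b c) : EQ Om := by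
  -- one half
  have half : ∀ z a x, CC Om z a → CC Om x a → ¬ CC Om z x → ∀ b, CC Om z b → CC Om x b := by
    intro z a x hza hxa hn b hzb
    have first : ∀ a, CC Om z a → CC Om x a → ∀ b, CC Om z b → CC Om a b → CC Om x b := by
      intro a hza hxa b hzb hab
      rcases tp.mp w hza.symm hxa.symm hab hzb with h1 | h1
      · exact (hn h1).elim
      · exact h1
    by_cases hab : CC Om a b
    · exact first a hza hxa b hzb hab
    · obtain ⟨b', c', hb', hc', hbc⟩ := h3 z hza.1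
      have h1 : ∃ c, CC Om z c ∧ CC Om a c := by
        rcases tp.mp w hb' hza hc' hbc with h1 | h1
        · exact ⟨b', hb', h1.symm⟩
        · exact ⟨c', hc', h1⟩
      obtain ⟨c, hc, hac⟩ := h1
      have hcb : CC Om c b := by
        rcases tp.mp w hza hzb hc hac with h2 | h2
        · exact (hab h2).elim
        · exact h2.symm
      exact first c hc (first a hza hxa c hc hac) b hzb hcb
  intro z a x hza hxa
  by_cases hn : CC Om z x
  · exact Or.inl hn
  · exact Or.inr fun b => ⟨half z a x hza hxa hn b, half x a z hxa hza (fun h => hn h.symm) b⟩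

end Cfsg.Agent.Cit.Nil.CompFour
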