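import Cfsg.Agent.Cit.Nil.CompR.TPm
import Cfsg.Agent.Cit.Nil.CompFour.Base

/-!
# S1309 (n5): the bridge from `TStat` for `C(e)` to statements in `G`

`ThreeIn H K₁` : `SL(2,3)` over `K₁` in `H`.

* `bridge` : from `TStat (restr Om C(e))`;
* `bridge_ih` : from the field `ih` of `SCW`;
* `tpr_of` : `TPr Om` from `SCW`, `O(C(e)) = 1` for all involutions `e`, and no member of `C(e)` has `ThreeIn`.
-/

set_option autoImplicit false
set_option linter.style.haveILetI false
set_option linter.unusedSectionVars false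

namespace Cfsg.Agent.Cit.Nil.CompFour

open Subgroup Cfsg Cfsg.Agent.Cit
open Cfsg.Agent.Cit.Nil.IndDefs
open Cfsg.Agent.Cit.Nil.CompR (zz_subOf cm_subOf_iff restr_t0)

/-- `SL(2,3)` over `K₁` in `H`: a subnormal subgroup `J` of `H ∩ C(z_1)` with `K_1 ≤ J`, `J/O(J) ≃ SL(2,3)` -/
def ThreeIn {G : Type*} [Group G] (H K₁ : Subgroup G) : Prop :=
  ∃ J : Subgroup G, J ≤ H ⊓ centralizer {zz K₁} ∧ K₁ ≤ J ∧ (J.subgroupOf (H ⊓ centralizer {zz K₁})).IsSubnormal ∧
    Nonempty ((↥J ⧸ oddCore ↥J) ≃* Matrix.SpecialLinearGroup (Fin 2) (ZMod 3))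

universe u

variable {G : Type u} [Group G] [Finite G] {Om : Set (Subgroup G)} {K L M : Subgroup G} {e : G}

theorem comp_OmC_of_restr {A C : Subgroup ↥(centralizer {e})}
    (h : C ∈ comp (restr Om (centralizer {e})) A) :
    C.map (centralizer {e}).subtype ∈ comp (OmC Om e) (A.map (centralizer {e}).subtype) := by
  induction h with
  | refl => exact mem_comp_self
  | @tail b c _ hbc ih =>
    have hle : ∀ D : Subgroup ↥(centralizer {e}), D.map (centralizer {e}).subtype ≤ centralizer {e} :=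
      fun D => Subgroup.map_subtype_le D
    refine mem_comp_of ih ⟨⟨hbc.1, hle _⟩, ⟨hbc.2.1, hle _⟩, fun h1 => hbc.2.2 ?_⟩
    intro a ha b hb
    exact Subtype.ext (h1 _ ⟨a, ha, rfl⟩ _ ⟨b, hb, rfl⟩)

theorem restr_of_comp_OmC (h : L ∈ comp (OmC Om e) K) :
    L.subgroupOf (centralizer {e}) ∈ comp (restr Om (centralizer {e})) (K.subgroupOf (centralizer {e})) := by
  have h1 : ∀ L, Relation.ReflTransGen (Adj (OmC Om e)) K L →
      Relation.ReflTransGen (Adj (restr Om (centralizer {e}))) (K.subgroupOf (centralizer {e}))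
        (L.subgroupOf (centralizer {e})) := by
    intro L hL
    induction hL with
    | refl => exact Relation.ReflTransGen.refl
    | @tail b c _ hbc ih =>
      refine Relation.ReflTransGen.tail ih
        ⟨subgroupOf_mem_restr hbc.1.1 hbc.1.2, subgroupOf_mem_restr hbc.2.1.1 hbc.2.1.2, fun h3 => hbc.2.2 ?_⟩
      exact (cm_subOf_iff hbc.1.2 hbc.2.1.2).1 h3
  exact h1 L h

/-- `Three` in `B` -/
theorem threeIn_of (hyp : Hyp Om) {B : Subgroup G} {K₁ : Subgroup ↥B} (hK₁ : K₁ ∈ restr Om B)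
    (h : Three K₁) : ThreeIn B (K₁.map B.subtype) := by
  obtain ⟨J, hJc, hKJ, hJs, ⟨φ⟩⟩ := h
  have hz := zz_map hyp hK₁
  have hmemc : ∀ x : B, x ∈ centralizer {zz K₁} ↔ (x : G) ∈ B ⊓ centralizer {zz (K₁.map B.subtype)} := by
    intro x
    rw [mem_inf, mem_centralizer_singleton_iff, mem_centralizer_singleton_iff, ← hz]
    exact ⟨fun h => ⟨x.2, congrArg Subtype.val h⟩, fun h => Subtype.ext h.2⟩
  refine ⟨J.map B.subtype, ?_, Subgroup.map_mono hKJ, ?_, ?_⟩
  · rintro _ ⟨x, hx, rfl⟩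
    exact (hmemc x).1 (hJc hx)
  · let f : centralizer {zz K₁} →* ↥(B ⊓ centralizer {zz (K₁.map B.subtype)}) :=
      { toFun := fun x => ⟨((x : B) : G), (hmemc x).1 x.2⟩
        map_one' := rfl
        map_mul' := fun _ _ => rfl }
    have hs : Function.Surjective f := by
      intro x
      have hx := x.2
      exact ⟨⟨⟨x, hx.1⟩, (hmemc _).2 hx⟩, rfl⟩
    have h1 : (J.subgroupOf (centralizer {zz K₁})).map f =
        (J.map B.subtype).subgroupOf (B ⊓ centralizer {zz (K₁.map B.subtype)}) := by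
      ext x
      constructor
      · rintro ⟨y, hy, rfl⟩
        exact ⟨y, hy, rfl⟩
      · rintro ⟨y, hy, hyx⟩
        refine ⟨⟨y, hJc hy⟩, hy, Subtype.ext hyx⟩
    rw [← h1]
    exact hJs.map hs
  · let ψ : J ≃* J.map B.subtype := J.equivMapOfInjective B.subtype B.subtype_injective
    have h2 : (oddCore J).map (ψ : J →* J.map B.subtype) = oddCore (J.map B.subtype) :=
      Lib.Cores.map_equiv_pPrimeCore ψ 2
    exact ⟨(QuotientGroup.congr _ _ ψ h2).symm.trans φ⟩

theorem nil_of (hyp : Hyp Om) (hK : K ∈ OmC Om e) (h : NIL (K.subgroupOf (centralizer {e}))) : zz K ∈ OT e :=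
  ⟨_, h, zz_subOf hyp hK⟩

theorem one_of (hyp : Hyp Om) (hK : K ∈ OmC Om e)
    (h : ONE (restr Om (centralizer {e})) (K.subgroupOf (centralizer {e}))) : ONE (OmC Om e) K := by
  have hsub : ∀ L ∈ comp (OmC Om e) K, L ∈ OmC Om e := fun L hL => comp_sub hK hL
  intro K₁ h₁ K₂ h₂ hcm L hL x hx
  have m1 := hsub _ h₁
  have m2 := hsub _ h₂
  have m3 := hsub _ hL
  have h5 := h _ (restr_of_comp_OmC h₁) _ (restr_of_comp_OmC h₂) ((cm_subOf_iff m1.2 m2.2).2 hcm) _
    (restr_of_comp_OmC hL) ⟨x, m3.2 hx⟩ hx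
  have h6 := congrArg Subtype.val h5
  simp only [Subgroup.coe_mul] at h6
  rwa [zz_subOf hyp m1, zz_subOf hyp m2] at h6

/-- **the bridge** -/
theorem bridge (hyp : Hyp Om) (hK : K ∈ OmC Om e)
    (hT : TStat (restr Om (centralizer {e})) (K.subgroupOf (centralizer {e}))) :
    zz K ∈ OT e ∨ ONE (OmC Om e) K ∨ ∃ K₁ ∈ comp (OmC Om e) K, ThreeIn (centralizer {e}) K₁ := by
  have hmK : (K.subgroupOf (centralizer {e})).map (centralizer {e}).subtype = K := map_subgroupOf_eq_of_le hK.2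
  rcases hT with h | h | ⟨K₁, h1, h3⟩
  · exact Or.inl (nil_of hyp hK h)
  · exact Or.inr (Or.inl (one_of hyp hK h))
  · right; right
    have h4 := comp_OmC_of_restr h1
    rw [hmK] at h4
    exact ⟨_, h4, threeIn_of hyp (comp_sub (subgroupOf_mem_restr hK.1 hK.2) h1) h3⟩

/-- **the bridge, from the induction hypothesis** -/
theorem bridge_ih (w : SCW G Om) (he : e ≠ 1) (hc : Cfsg.pPrimeCore 2 ↥(centralizer {e}) = ⊥) (hK : K ∈ OmC Om e) :
    zz K ∈ OT e ∨ ONE (OmC Om e) K ∨ ∃ K₁ ∈ comp (OmC Om e) K, ThreeIn (centralizer {e}) K₁ := by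
  have f := ROne.fsimp_of w.simple w.na
  have hlt : Nat.card ↥(centralizer {e}) < Nat.card G := by
    refine lt_of_le_of_ne (Subgroup.card_le_card_group _) fun h1 => he ?_
    have h2 : centralizer {e} = ⊤ := Subgroup.eq_top_of_card_eq _ h1
    rw [← Subgroup.mem_bot, ← f.cen, mem_centralizer_iff]
    intro y _
    have h4 : y ∈ centralizer {e} := by rw [h2]; exact mem_top y
    exact mem_centralizer_singleton_iff.1 h4
  exact bridge w.t0.hyp hK (w.ih _ _ hlt (restr_t0 w.t0 hc) _ (subgroupOf_mem_restr hK.1 hK.2))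

/-- **`TPr` from the induction hypothesis** -/
theorem tpr_of (w : SCW G Om) (core : ∀ t : G, orderOf t = 2 → centralizerPPrimeCore 2 t = ⊥)
    (no : ∀ e : G, e * e = 1 → e ≠ 1 → ∀ K ∈ OmC Om e, ¬ ThreeIn (centralizer {e}) K) : TPr Om := by
  intro e hee he K hK
  have hc : Cfsg.pPrimeCore 2 ↥(centralizer ({e} : Set G)) = ⊥ := by
    have h1 := core e (orderOf_eq_prime (by rw [pow_two]; exact hee) he)
    exact (Subgroup.map_eq_bot_iff_of_injective _ (Subgroup.subtype_injective _)).1 h1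
  rcases bridge_ih w he hc hK with h | h | ⟨K₁, h1, h3⟩
  · exact Or.inl h
  · exact Or.inr h
  · exact absurd h3 (no e hee he K₁ (comp_sub hK h1))

end Cfsg.Agent.Cit.Nil.CompFour
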