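import Cfsg.Agent.Cit.Nil.CompFour.NC

/-!
# S1309, node (n5): (5.1) (helper752)

Text: `blueprints/R18-6b-n5-helper449.md`, section 5.

* `blk_of_nil`, `one_of_not_blk` : a component of `OmC Om e` over two blocks is `ONE`;
* `NC.mem_comp_iff`, `NC.one` : the members over `a0(a)` are one component of `OmC Om a`, with `ONE`;
* `NC.comp_e`, `NC.one_e` : `e ∈ R_c` an involution: the members over `a0(c)` lie in one component of `OmC Om e`, with
  `ONE`, which contains no member over `c`;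
* **`NC.five`** : (5.1).
-/

set_option autoImplicit false
set_option linter.style.haveILetI false
set_option linter.unusedSectionVars false

namespace Cfsg.Agent.Cit.Nil.CompFour

open Subgroup Cfsg Cfsg.Agent.Cit Cfsg.Agent.Cit.Nil.RI Cfsg.Agent.Cit.Nil.IndDefs

open RG (WR CP Ov)

variable {G : Type*} [Group G] [Finite G] {Om : Set (Subgroup G)} {K L M N P : Subgroup G}
  {a b c d e s t u v x y z g v' w' : G}

/-- a component all of whose members are nil lies over one block -/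
theorem blk_of_nil (w : TB Om) (hnil : ∀ M ∈ comp (OmC Om e) K, zz M ∈ OT e) (hL : L ∈ comp (OmC Om e) K) :
    Blk Om (zz K) (zz L) := by
  have hM' := hL
  unfold comp at hM'
  rw [Set.mem_ofPred_eq] at hM'
  induction hM' with
  | refl => exact Blk.refl _
  | @tail M N h1 h2 ih =>
    have h3 := ih h1
    have hMm : Mem Om (zz M) M := ⟨h2.1.1, rfl⟩
    have hNm : Mem Om (zz N) N := ⟨h2.2.1.1, rfl⟩
    rcases w.cases_two (OT_two e) (hnil M h1) (hnil N hL) hMm.inZ hNm.inZ with h4 | h4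
    · exact (h2.2.2 (h4.cm w hMm hNm)).elim
    · exact h3.trans h4

/-- a component over two blocks is `ONE` -/
theorem one_of_not_blk (w : TB Om) (tp : TPr Om) (hee : e * e = 1) (he1 : e ≠ 1) (hK : K ∈ OmC Om e)
    (hL : L ∈ comp (OmC Om e) K) (hb : ¬ Blk Om (zz K) (zz L)) : ONE (OmC Om e) K := by
  by_contra hone
  refine hb (blk_of_nil w (fun M hM => ?_) hL)
  rcases tp e hee he1 M (comp_sub' hK hM) with h1 | h1
  · exact h1
  · exact (hone (one_comp h1 (comp_symm hM))).elim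

/-- a member in `C(c)`, `c ∈ Z` -/
theorem eq_or_cc (w : TB Om) (hc : InZ Om c) (hL : Mem Om x L) (hLc : L ∈ OmC Om c) : x = c ∨ CC Om c x := by
  by_cases hne : x = c
  · exact Or.inl hne
  · refine Or.inr (CC.of_cent w hL hc hne fun k hk => ?_).symm
    exact (mem_centralizer_singleton_iff.1 (hLc.2 hk)).symm

/-- members over `v ∈ a0(c)` are centralised by `e ∈ R_c` -/
theorem CC.mem_OmC_of (w : TB Om) (h : CC Om c v) (he : e ∈ RZ Om c) (hL : Mem Om v L) : L ∈ OmC Om e :=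
  ⟨hL.1, fun l hl => by
    rw [mem_centralizer_singleton_iff]
    exact (h.rz w he (hL.le_RZ hl)).symm⟩

namespace NC

variable (n : NC Om)

include n

theorem mem_comp (hv : CC Om c v) (hv' : CC Om c v') (hK : Mem Om v K) (hL : Mem Om v' L) :
    L ∈ comp (OmC Om c) K := by
  rcases comp_or_cc n.b hv hv' hK hL with h1 | h1
  · exact h1
  · exact (n.m2 c v v' hv hv' h1).elim

/-- the members over `a0(c)` are one component of `OmC Om c` -/
theorem mem_comp_iff (hv : CC Om c v) (hK : Mem Om v K) :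
    L ∈ comp (OmC Om c) K ↔ ∃ v', CC Om c v' ∧ Mem Om v' L := by
  refine ⟨fun hL => ?_, fun ⟨v', h1, h2⟩ => n.mem_comp hv h1 hK h2⟩
  have hL' := hL
  unfold comp at hL'
  rw [Set.mem_ofPred_eq] at hL'
  clear hL
  induction hL' with
  | refl => exact ⟨v, hv, hK⟩
  | @tail M N h1 h2 ih =>
    obtain ⟨u, hu, hM⟩ := ih
    have hN : Mem Om (zz N) N := ⟨h2.2.1.1, rfl⟩
    refine ⟨zz N, ?_, hN⟩
    rcases eq_or_cc n.b hv.1 hN h2.2.1 with h3 | h3
    · exfalso
      rw [h3] at hN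
      exact h2.2.2 (hu.cm n.b hN hM).symm
    · exact h3

/-- `a0(c)` is over two blocks -/
theorem exists_two (hc : InZ Om c) : ∃ v v' K K', CC Om c v ∧ CC Om c v' ∧ Mem Om v K ∧ Mem Om v' K' ∧
    ¬ Blk Om (zz K) (zz K') := by
  obtain ⟨v, v', hv, hv', hb⟩ := n.nb c hc
  obtain ⟨K, hK⟩ := hv.2.1
  obtain ⟨K', hK'⟩ := hv'.2.1
  exact ⟨v, v', K, K', hv, hv', hK, hK', by rw [hK.2, hK'.2]; exact hb⟩

/-- the component over `a0(c)` is `ONE` -/
theorem one (hv : CC Om c v) (hK : Mem Om v K) : ONE (OmC Om c) K := by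
  obtain ⟨u, u', L, L', hu, hu', hL, hL', hb⟩ := n.exists_two hv.1
  have hLK := n.mem_comp hu hv hL hK
  refine one_comp (one_of_not_blk n.b n.tp (hv.1.z2 n.b.w) (hv.1.z1 n.b.w) (hu.mem_OmC n.b hL)
    (n.mem_comp hu hu' hL hL') hb) hLK

/-- the members over `a0(c)` lie in one component of `OmC Om e`, `e ∈ R_c` -/
theorem comp_e (he : e ∈ RZ Om c) (hv : CC Om c v) (hK : Mem Om v K) (hv' : CC Om c v') (hL : Mem Om v' L) :
    L ∈ comp (OmC Om e) K := by
  have hL' : L ∈ comp (OmC Om c) K := n.mem_comp hv hv' hK hL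
  clear hv' hL
  unfold comp at hL'
  rw [Set.mem_ofPred_eq] at hL'
  induction hL' with
  | refl => exact mem_comp_self
  | @tail M N h1 h2 ih =>
    obtain ⟨u, hu, hM⟩ := (n.mem_comp_iff hv hK).1 h1
    obtain ⟨u', hu', hN⟩ := (n.mem_comp_iff hv hK).1 (mem_comp_of h1 h2)
    exact mem_comp_of ih ⟨hu.mem_OmC_of n.b he hM, hu'.mem_OmC_of n.b he hN, h2.2.2⟩

theorem one_e (he : e ∈ RZ Om c) (hee : e * e = 1) (he1 : e ≠ 1) (hv : CC Om c v) (hK : Mem Om v K) :
    ONE (OmC Om e) K := by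
  obtain ⟨u, u', L, L', hu, hu', hL, hL', hb⟩ := n.exists_two hv.1
  exact one_comp (one_of_not_blk n.b n.tp hee he1 (hu.mem_OmC_of n.b he hL) (n.comp_e he hu hL hu' hL') hb)
    (n.comp_e he hu hL hv hK)

/-- no member over `c` in that component -/
theorem not_comp_e (he : e ∈ RZ Om c) (hee : e * e = 1) (he1 : e ≠ 1) (hv : CC Om c v) (hK : Mem Om v K)
    (hM : Mem Om c M) : M ∉ comp (OmC Om e) K := by
  intro hMc
  obtain ⟨v', hvv'⟩ := n.b.ti v hv.2.1
  obtain ⟨K', hK'⟩ := hvv'.inT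
  have hv' : CC Om c v' := hv.blk' n.b hvv'.blk
  exact false_of_one n.b (n.one_e he hee he1 hv hK) hMc mem_comp_self (n.comp_e he hv hK hv' hK') hM hK hK' hv hvv'

/-- **(5.1)** -/
theorem five (hc : InZ Om c) (he : e ∈ RZ Om c) (hee : e * e = 1) (he1 : e ≠ 1) (hK : Mem Om c K)
    (hKe : K ∈ OmC Om e) (hL : Mem Om x L) (hLe : L ∈ OmC Om e) : CC Om x c ∨ Eqv Om x c := by
  obtain ⟨v, v', A, A', hv, hv', hA, hA', hb⟩ := n.exists_two hc
  have hAe : A ∈ OmC Om e := hv.mem_OmC_of n.b he hA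
  by_cases hLA : L ∈ comp (OmC Om e) A
  · -- `L` commutes with `K`
    left
    have h1 : Cm L K := cm_of_not_comp hLA hAe hKe (n.not_comp_e he hee he1 hv hA hK)
    refine CC.of_cm n.b hL hK ?_ h1
    rintro rfl
    exact n.not_comp_e he hee he1 hv hA hL hLA
  · -- `L` commutes with the members over `a0(c)`
    by_cases hx : CC Om c x
    · exact Or.inl hx.symm
    right
    have h1 : {u | CC Om c u} ⊆ {u | CC Om x u} := by
      intro u hu
      have hu' : CC Om c u := hu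
      obtain ⟨B, hB⟩ := hu'.2.1
      have h2 : Cm B L := cm_of_not_comp (n.comp_e he hv hA hu' hB) hAe hLe hLA
      refine (CC.of_cm n.b hB hL ?_ h2).symm
      rintro rfl
      exact hx hu'
    have h2 : {u | CC Om c u} = {u | CC Om x u} :=
      Set.eq_of_subset_of_ncard_le h1 (le_of_eq (n.cd x c hL.inZ hc)) (Set.toFinite _)
    intro b
    have h3 : b ∈ {u | CC Om c u} ↔ b ∈ {u | CC Om x u} := by rw [h2]
    exact h3.symm

end NC

end Cfsg.Agent.Cit.Nil.CompFour
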