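import Cfsg.Agent.Cit.Nil.RI.NZero
import Cfsg.Agent.Cit.Nil.RI.TSFour
import Cfsg.Agent.Cit.Nil.Three.ExCK

/-!
# S1309, COMP, `r = 4` with type I pairs: THREE PROPAGATION, K-free (helper449's text)

World: `WM Om`, the member `K` over `a` has a type I neighbour `v` (`TI Om a v`), `O(C(a)) = 1`.

* `TI.act_swap` : the action of `x ∈ L` (over `v`, `x` acts on `L` as `a`) on the members over `a`;
* `exists_inner` : elements of `R_a` inducing a given inner action;
* `TI.exists_ck` : `CK K c` implies `CK K c₂` with `c₂` centralising `X_a`;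
* **`TI.three`** : `CK K c` implies `Three K`;
* **`three_of_cent`** : THREE in `C(s)` implies THREE in `G`, every involution `s`.
-/

set_option autoImplicit false
set_option linter.style.haveILetI false
set_option linter.unusedSectionVars false

namespace Cfsg.Agent.Cit.Nil.RI

open Subgroup Cfsg Cfsg.Agent.Cit

open RTwo (Q3 Act i11 i12 i21 i22 i_ne1 i_ne2 i_ne12 i_cases i_cases3)
open Three (H8 CK CP comm_of_pow_two act_inv odd_perm act_pow)

variable {G : Type*} [Group G] [Finite G] {Om : Set (Subgroup G)} {K L M : Subgroup G} {a b c d g n r s v x y z : G}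
  {q : Fin 3 → G}

theorem WM.h8 (h : WM Om) : H8 Om := ⟨h.hyp, h.card⟩

/-- **the quarter turn as a transposition** -/
theorem TI.act_swap (hti : TI Om a v) (h : WM Om) (hM : Mem Om a M) (hL : Mem Om v L) (hx : As L a x)
    (hq : Q3 M a q) {i : Fin 3} (hy : As M v (q i)) : Act a q q x (Equiv.swap (i + 1) (i + 2)) := by
  obtain ⟨h1, h2, h3⟩ := (hti.symm h).rot h hL hM hx hy
  obtain ⟨σ, hσ⟩ := hq.exists_act hq h1 hx.comm.symm
  have e1 : σ i = i := by
    have h4 : x * q i * x⁻¹ = q i := by rw [h2, mul_inv_cancel_right]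
    rcases hσ i with h5 | h5
    · rw [h4] at h5; exact (hq.inj (Or.inl h5)).symm
    · rw [h4] at h5; exact (hq.inj (Or.inr h5)).symm
  have hnc : q i * q (i + 1) ≠ q (i + 1) * q i := by
    intro h4
    rw [hq.mul, hq.mul'] at h4
    exact hq.zx_ne _ h4.symm
  have e2 : σ (i + 1) = i + 2 := by
    have h4 := h3 (q (i + 1)) (hq.mem _) (hq.sq _) hnc
    rw [hq.mul] at h4
    rcases h4 with h4 | h4 <;> rcases hσ (i + 1) with h5 | h5 <;> rw [h4] at h5
    · exact (hq.inj (Or.inl h5)).symm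
    · exact (hq.inj (Or.inr h5)).symm
    · exact hq.inj (Or.inr h5.symm)
    · exact (hq.inj (Or.inl (mul_left_cancel h5))).symm
  have key : ∀ (σ : Equiv.Perm (Fin 3)) (i : Fin 3), σ i = i → σ (i + 1) = i + 2 →
      σ = Equiv.swap (i + 1) (i + 2) := by decide
  rw [← key σ i e1 e2]
  exact hσ

/-- an element inducing inner automorphisms on the members over `z` acts as an element of `R_z` -/
theorem exists_inner (h : WM Om) (hz : InZ Om z) (hi : Inn Om z g) : ∃ ρ ∈ RZ Om z, g * ρ⁻¹ ∈ CX Om z := by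
  obtain ⟨F, f⟩ := hz.exists_fr h
  have h1 : ∀ i, ∃ y, As (F i) g y := fun i => exists_as_of_inn h (f.mem i) hi
  choose k hk using h1
  refine ⟨k 0 * k 1 * k 2 * k 3, (mem_RZ f h).2 ⟨k, fun i => (hk i).1, rfl⟩, ?_⟩
  refine mem_CX_of_as fun M hM => ?_
  obtain ⟨i, rfl⟩ := f.cov M hM
  have h2 := (hk i).mul (f.as_prod h (fun i => (hk i).1) i).inv
  rwa [mul_inv_cancel] at h2

/-- the members over `a` other than `K` are in `C_P(K)` -/
theorem le_CP (h : WM Om) (hcore : oddCore ↥(centralizer ({zz K} : Set G)) = ⊥) (hK : K ∈ Om) (hM : Mem Om (zz K) M)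
    (hne : M ≠ K) : M ≤ CP (zz K) K := by
  have h1 := h.h8.over hcore
  intro m hm
  have hmC : m ∈ centralizer ({zz K} : Set G) := mem_centralizer_singleton_iff.2 (hM.comm_z h hm)
  refine Three.mem_CP.2 ⟨⟨hmC, ?_⟩, fun k hk _ => ?_⟩
  · refine h1.le (M.subgroupOf (centralizer {zz K})) ⟨M, hM.1, hM.2, rfl⟩ ?_
    exact mem_subgroupOf.2 hm
  · exact Mem.comm (z := zz K) ⟨hK, rfl⟩ hM h hne.symm hk hm

/-- components of `C(a)` are in `X_a` -/
theorem component_le (h : WM Om) (hcore : oddCore ↥(centralizer ({z} : Set G)) = ⊥)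
    {E : Subgroup ↥(centralizer ({z} : Set G))} (hE : IsComponent E) {e : ↥(centralizer ({z} : Set G))} (he : e ∈ E) :
    (e : G) ∈ CX Om z := by
  rw [mem_CX]
  intro M hM m hm
  have h1 := h.h8.over (a := z) hcore
  have hmC : m ∈ centralizer ({z} : Set G) := mem_centralizer_singleton_iff.2 (hM.comm_z h hm)
  have hmP : (⟨m, hmC⟩ : ↥(centralizer ({z} : Set G))) ∈ pCore 2 ↥(centralizer ({z} : Set G)) :=
    h1.le (M.subgroupOf (centralizer {z})) ⟨M, hM.1, hM.2, rfl⟩ (mem_subgroupOf.2 hm)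
  exact congrArg Subtype.val (Three.comm_layer hmP
    (Cfsg.Agent.SignalizersComponents.Components.component_le_layer hE he))

/-- **an odd element rotating `K`, centralising `X_a` and `C_P(K)`** -/
theorem TI.exists_ck (hti : TI Om (zz K) v) (h : WM Om) (hcore : oddCore ↥(centralizer ({zz K} : Set G)) = ⊥)
    (hK : K ∈ Om) (hc : CK K c) : ∃ c₂, CK K c₂ ∧ ∀ n ∈ CX Om (zz K), c₂ * n = n * c₂ := by
  obtain ⟨a, ha⟩ : ∃ a, a = zz K := ⟨_, rfl⟩
  have hKm : Mem Om a K := ⟨hK, ha.symm⟩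
  rw [← ha] at hti hcore ⊢
  have hca : c * a = a * c := hKm.of_cj h hc.nor
  -- `c` centralises the other members
  have hcM : ∀ M, Mem Om a M → M ≠ K → ∀ m ∈ M, c * m = m * c := by
    intro M hM hne m hm
    refine hc.cr m (le_CP h ?_ hK ?_ hne hm)
    · rw [← ha]; exact hcore
    · rw [← ha]; exact hM
  obtain ⟨L, hL⟩ := hti.inT
  obtain ⟨x, hx, hxx⟩ := (hti.symm h).exists_as h hL
  have hti' : TI Om a (c * v * c⁻¹) := by
    have := hti.conj h c
    rwa [hca, mul_inv_cancel_right] at this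
  have hL' : Mem Om (c * v * c⁻¹) (cj c L) := hL.cj h c
  have hx' : As (cj c L) a (c * x * c⁻¹) := hx.conj_comm hca
  have hxa : x * a = a * x := hx.comm.symm
  have hxa' : (c * x * c⁻¹) * a = a * (c * x * c⁻¹) := hx'.comm.symm
  obtain ⟨g, hg⟩ : ∃ g, g = x * (c * x * c⁻¹) := ⟨_, rfl⟩
  have hga : g * a = a * g := by
    rw [hg]
    calc x * (c * x * c⁻¹) * a = x * ((c * x * c⁻¹) * a) := by group
      _ = x * (a * (c * x * c⁻¹)) := by rw [hxa']
      _ = (x * a) * (c * x * c⁻¹) := by group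
      _ = (a * x) * (c * x * c⁻¹) := by rw [hxa]
      _ = _ := by group
  have hzz := hKm.inZ.z2 h
  -- `c⁻¹ g` is inner
  have hinn : Inn Om a (c⁻¹ * g) := by
    intro M hM
    obtain ⟨y, hy, hyy⟩ := hti.exists_as h hM
    obtain ⟨q, hq, hq0⟩ := hM.exists_q h hy.1 hyy
    rw [← hq0] at hy
    have h1 := hti.act_swap h hM hL hx hq hy
    have hcia : c⁻¹ * a = a * c⁻¹ := by
      rw [inv_mul_eq_iff_eq_mul, ← mul_assoc, hca, mul_inv_cancel_right]
    have hca' : (c⁻¹ * g) * a = a * (c⁻¹ * g) := by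
      calc (c⁻¹ * g) * a = c⁻¹ * (g * a) := by group
        _ = c⁻¹ * (a * g) := by rw [hga]
        _ = (c⁻¹ * a) * g := by group
        _ = (a * c⁻¹) * g := by rw [hcia]
        _ = _ := by group
    by_cases hne : M = K
    · subst hne
      obtain ⟨τ, hτ⟩ := hq.exists_act hq hc.nor hca
      have hτ3 : τ * τ * τ = 1 := by
        have h2 := act_pow hzz hτ hca (orderOf c)
        rw [pow_orderOf_eq_one] at h2
        exact odd_perm hc.odd (h2.unique hq (Act.one q a))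
      have hτ1 : τ ≠ 1 := by
        rintro rfl
        obtain ⟨k, hk, hne⟩ := hc.nt
        exact hne (Three.comm_of_odd_inn hzz hc.odd hca (Act.inner hq hτ hca k hk))
      -- `c v c⁻¹` acts as `q (τ 0)`
      have hy' : As M (c * v * c⁻¹) (q (τ 0)) := by
        have h2 := hy.conj c
        rw [hc.nor] at h2
        rcases hτ 0 with h3 | h3
        · rwa [h3] at h2
        · rw [h3] at h2
          have h4 := hM.as_mul_z h h2
          rwa [← mul_assoc, hzz, one_mul] at h4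
      have h2 := hti'.act_swap h hM hL' hx' hq hy'
      have h3 := h2.comp hzz h1 hxa
      rw [← hg] at h3
      have h4 := h3.comp hzz (act_inv hq hτ hca hc.nor) hcia
      have key : ∀ τ : Equiv.Perm (Fin 3), τ * τ * τ = 1 → τ ≠ 1 →
          τ⁻¹ * (Equiv.swap (0 + 1) (0 + 2) * Equiv.swap (τ 0 + 1) (τ 0 + 2)) = 1 := by decide
      rw [key τ hτ3 hτ1] at h4
      exact Act.inner hq h4 hca'
    · have hcM' := hcM M hM hne
      have hcjM : cj c M = M := Three.cj_eq_of_mem fun m hm => by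
        rw [hcM' m hm, mul_inv_cancel_right]; exact hm
      have hy' : As M (c * v * c⁻¹) (q 0) := by
        have h2 := hy.conj c
        rw [hcjM, hcM' _ (hq.mem 0), mul_inv_cancel_right] at h2
        exact h2
      have h2 := hti'.act_swap h hM hL' hx' hq hy'
      have h3 := h2.comp hzz h1 hxa
      rw [← hg] at h3
      have key : Equiv.swap ((0 : Fin 3) + 1) (0 + 2) * Equiv.swap ((0 : Fin 3) + 1) (0 + 2) = 1 := by decide
      rw [key] at h3
      have h4 := Act.inner hq h3 hga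
      intro m hm
      have h5 : ∀ m ∈ M, c⁻¹ * m * c⁻¹⁻¹ = m := fun m hm => by
        rw [inv_inv, mul_assoc, ← hcM' m hm, inv_mul_cancel_left]
      have h6 : c⁻¹ * g * m * (c⁻¹ * g)⁻¹ = c⁻¹ * (g * m * g⁻¹) * c⁻¹⁻¹ := by group
      rw [h6]
      rcases h4 m hm with h7 | h7
      · left; rw [h7, h5 m hm]
      · right; rw [h7, h5 _ (mul_mem (hM.zmem h) hm)]
  obtain ⟨ρ, hρ, hn⟩ := exists_inner h hKm.inZ hinn
  obtain ⟨n, hn'⟩ : ∃ n, n = c⁻¹ * g * ρ⁻¹ := ⟨_, rfl⟩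
  rw [← hn'] at hn
  obtain ⟨b, hb⟩ : ∃ b, b = g * ρ⁻¹ := ⟨_, rfl⟩
  have hbcn : b = c * n := by rw [hb, hn']; group
  -- `b` centralises `X_a`
  have hbX : ∀ n ∈ CX Om a, b * n = n * b := by
    intro n hn
    have e1 : n * x = x * n := hti.comm_of h hn (hL.le_RZ hx.1) hxa.symm
    have e2 : n * (c * x * c⁻¹) = (c * x * c⁻¹) * n := hti'.comm_of h hn (hL'.le_RZ hx'.1) hxa'.symm
    have e3 : n * ρ = ρ * n := CX_comm hρ hn
    have e4 : Commute n b := by
      rw [hb, hg]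
      have c1 : Commute n x := e1
      have c2 : Commute n (c * x * c⁻¹) := e2
      have c3 : Commute n ρ := e3
      exact (c1.mul_right c2).mul_right c3.inv_right
    exact e4.eq.symm
  have hcn : Commute c n := by
    have h1 := hbX n hn
    rw [hbcn] at h1
    have h2 : (c * n) * n = (n * c) * n := by rw [h1]; group
    exact mul_right_cancel h2
  obtain ⟨s, m, hm, hsm⟩ : ∃ s m : ℕ, Odd m ∧ orderOf b = 2 ^ s * m := by
    obtain ⟨n, m, hm, hnm⟩ := Nat.exists_eq_two_pow_mul_odd (orderOf_pos b).ne'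
    exact ⟨n, m, hm, hnm⟩
  obtain ⟨c₂, hc₂⟩ : ∃ c₂, c₂ = b ^ 2 ^ s := ⟨_, rfl⟩
  have ho : Odd (orderOf c₂) := by
    have h1 : c₂ ^ m = 1 := by rw [hc₂, ← pow_mul, ← hsm, pow_orderOf_eq_one]
    exact hm.of_dvd_nat (orderOf_dvd_of_pow_eq_one h1)
  have hc₂X : ∀ n ∈ CX Om a, c₂ * n = n * c₂ := by
    intro n hn
    have h1 : Commute b n := hbX n hn
    rw [hc₂]
    exact (h1.pow_left _).eq
  have hc₂e : c₂ = c ^ 2 ^ s * n ^ 2 ^ s := by rw [hc₂, hbcn, hcn.mul_pow]
  have hnK : ∀ k ∈ K, n * k = k * n := mem_CX.1 hn K hKm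
  have hnm : n ^ 2 ^ s ∈ CX Om a := pow_mem hn _
  have hc₂a : c₂ * a = a * c₂ := hc₂X a (z_mem_CX h)
  refine ⟨c₂, ⟨ho, ?_, ?_, ?_⟩, hc₂X⟩
  · rw [← mem_normalizer_iff_cj, hc₂]
    refine pow_mem ?_ _
    rw [hbcn]
    refine mul_mem (mem_normalizer_iff_cj.2 hc.nor) (mem_normalizer_iff_cj.2 ?_)
    exact Three.cj_eq_of_mem fun k hk => by rw [hnK k hk, mul_inv_cancel_right]; exact hk
  · by_contra hcon
    push Not at hcon
    obtain ⟨k, hk, hne⟩ := hc.nt
    apply hne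
    refine (comm_of_pow_two hc.odd (n := s) ?_).eq
    have h1 : Commute c₂ k := hcon k hk
    have h2 : Commute (n ^ 2 ^ s) k := mem_CX.1 hnm K hKm k hk
    have h3 : c ^ 2 ^ s = c₂ * (n ^ 2 ^ s)⁻¹ := by rw [hc₂e, mul_inv_cancel_right]
    rw [h3]
    exact h1.mul_left h2.inv_left
  · intro r hr
    have hcr : Commute c r := hc.cr r hr
    rw [← ha] at hr
    obtain ⟨⟨hrC, hrP⟩, -⟩ := Three.mem_CP.1 hr
    have hra : r * a = a * r := mem_centralizer_singleton_iff.1 hrC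
    obtain ⟨d, hd⟩ : ∃ d, d = c₂⁻¹ * r * c₂ * r⁻¹ := ⟨_, rfl⟩
    have hcr' : (c ^ 2 ^ s)⁻¹ * r * c ^ 2 ^ s = r := by
      have h1 : Commute (c ^ 2 ^ s) r := hcr.pow_left _
      rw [mul_assoc, ← h1.eq, inv_mul_cancel_left]
    have hdX : d ∈ CX Om a := by
      have h1 : d = (n ^ 2 ^ s)⁻¹ * (r * n ^ 2 ^ s * r⁻¹) := by
        rw [hd, hc₂e]
        calc (c ^ 2 ^ s * n ^ 2 ^ s)⁻¹ * r * (c ^ 2 ^ s * n ^ 2 ^ s) * r⁻¹
            = (n ^ 2 ^ s)⁻¹ * ((c ^ 2 ^ s)⁻¹ * r * c ^ 2 ^ s) * n ^ 2 ^ s * r⁻¹ := by group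
          _ = _ := by rw [hcr']; group
      rw [h1]
      exact mul_mem (inv_mem hnm) (CX_conj_comm h hra hnm)
    have hdP : ∃ l : ℕ, d ^ 2 ^ l = 1 := by
      have hc₂C : c₂ ∈ centralizer ({a} : Set G) := mem_centralizer_singleton_iff.2 hc₂a
      have h1 := (pCore 2 ↥(centralizer ({a} : Set G))).mul_mem
        (Three.conj_mem_pCore hrP (⟨c₂, hc₂C⟩ : ↥(centralizer ({a} : Set G)))⁻¹)
        ((pCore 2 ↥(centralizer ({a} : Set G))).inv_mem hrP)
      obtain ⟨l, hl⟩ := Three.pow_two_of_mem h1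
      refine ⟨l, ?_⟩
      have h2 := congrArg Subtype.val hl
      change (c₂⁻¹ * r * c₂⁻¹⁻¹ * r⁻¹) ^ 2 ^ l = 1 at h2
      rw [inv_inv, ← hd] at h2
      exact h2
    obtain ⟨l, hl⟩ := hdP
    have hcd : Commute c₂ d := hc₂X d hdX
    have h1 : r * c₂ * r⁻¹ = c₂ * d := by rw [hd]; group
    have h2 : d ^ orderOf c₂ = 1 := by
      have h3 : (r * c₂ * r⁻¹) ^ orderOf c₂ = 1 := by rw [conj_pow, pow_orderOf_eq_one, mul_one, mul_inv_cancel]
      rw [h1, hcd.mul_pow, pow_orderOf_eq_one, one_mul] at h3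
      exact h3
    have h3 : d = 1 := by
      rw [← orderOf_eq_one_iff]
      have h4 : Nat.Coprime (orderOf c₂) (2 ^ l) := Nat.Coprime.pow_right _ (Nat.coprime_two_right.2 ho)
      exact Nat.eq_one_of_dvd_coprimes h4 (orderOf_dvd_of_pow_eq_one h2) (orderOf_dvd_of_pow_eq_one hl)
    rw [h3, mul_one, mul_inv_eq_iff_eq_mul] at h1
    exact h1.symm

/-- **`CK K c` implies THREE** -/
theorem TI.three (hti : TI Om (zz K) v) (h : WM Om) (hcore : oddCore ↥(centralizer ({zz K} : Set G)) = ⊥)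
    (hK : K ∈ Om) (hc : CK K c) : IndDefs.Three K := by
  obtain ⟨c₂, hc₂, hX⟩ := hti.exists_ck h hcore hK hc
  refine h.h8.three hK hcore hc₂ fun E hE => ⟨1, one_mem E, fun x hx => ?_⟩
  have h1 := hX x (component_le h hcore hE hx)
  rw [h1, mul_inv_cancel_right]
  change (x : G) = 1 * x * 1⁻¹
  rw [one_mul, inv_one, mul_one]

/-- **THREE PROPAGATION**: THREE in `C(s)` implies THREE in `G` -/
theorem three_of_cent (h : WM Om) (hT : ∀ z, InZ Om z → ∃ t, TI Om z t)
    (hcore : ∀ K ∈ Om, oddCore ↥(centralizer ({zz K} : Set G)) = ⊥) (hs : s * s = 1)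
    {K₁ : Subgroup ↥(centralizer ({s} : Set G))} (hK₁ : K₁ ∈ restr Om (centralizer {s})) (h3 : IndDefs.Three K₁) :
    IndDefs.Three (K₁.map (centralizer ({s} : Set G)).subtype) := by
  obtain ⟨c, hc, -⟩ := h.h8.exists_ck hs hK₁ h3 (hcore _ hK₁)
  obtain ⟨v, hv⟩ := hT _ ⟨K₁.map (centralizer ({s} : Set G)).subtype, hK₁, rfl⟩
  exact hv.three h (hcore _ hK₁) hK₁ hc

end Cfsg.Agent.Cit.Nil.RI
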