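import Cfsg.Agent.Cit.Nil.CompFour.SecDef
import Cfsg.Agent.Cit.Nil.CompFour.FiveOne
import Cfsg.Agent.Cit.Nil.Ind.SubB
import Cfsg.Agent.Cit.Nil.Ind.Quo

/-!
# S1309, node (n5), section 5: the component of `B = ⟨K : zz K` a C-partner of `a⟩`

* `Ba Om a` : the group `B`; `mem_restr_Ba` : its members are the members over the C-partners;
* `NC.t0`, `NC.top`, `NC.conn`, `NC.not_nil` : the world of the frame in `B`;
* **`NC.exists_sl`** : `∃ B L, SL Om a B L`.
-/

set_option autoImplicit false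
set_option linter.style.haveILetI false
set_option linter.unusedSectionVars false

namespace Cfsg.Agent.Cit.Nil.CompFour

open Subgroup Cfsg Cfsg.Agent.Cit Cfsg.Agent.Cit.Nil.RI Cfsg.Agent.Cit.Nil.IndDefs
open Cfsg.Agent.Cit.Comp (EvQ)

universe u

/-- `B` -/
def Ba {G : Type*} [Group G] (Om : Set (Subgroup G)) (a : G) : Subgroup G := sSup {K | K ∈ Om ∧ CC Om a (zz K)}

section

variable {G : Type*} [Group G] [Finite G] {Om : Set (Subgroup G)} {K L M N P : Subgroup G} {a b c d e s t u v x y z g : G}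

theorem le_Ba (hK : K ∈ Om) (h : CC Om a (zz K)) : K ≤ Ba Om a := le_sSup (show K ∈ {K | K ∈ Om ∧ CC Om a (zz K)} from ⟨hK, h⟩)

theorem Ba_le (w : TB Om) : Ba Om a ≤ centralizer {a} :=
  sSup_le fun _ hK => hK.2.le_cent w ⟨hK.1, rfl⟩

theorem le_normalizer_Ba (w : TB Om) : centralizer {a} ≤ normalizer (Ba Om a : Set G) := by
  have key : ∀ g ∈ centralizer ({a} : Set G), ∀ x ∈ Ba Om a, g * x * g⁻¹ ∈ Ba Om a := by
    intro g hg x hx
    have hga : g * a * g⁻¹ = a := by rw [mem_centralizer_singleton_iff.1 hg, mul_inv_cancel_right]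
    have h1 : Ba Om a ≤ (Ba Om a).comap (MulAut.conj g).toMonoidHom := by
      refine sSup_le fun K hK k hk => ?_
      have h2 := hK.2.conj w g
      rw [hga] at h2
      have h3 : CC Om a (zz (cj g K)) := by rw [w.w.hyp.zz_cj hK.1]; exact h2
      exact le_Ba (w.w.hyp.conj K hK.1 g) h3 (conj_mem_cj hk)
    exact h1 hx
  intro g hg
  rw [mem_normalizer_iff]
  intro x
  refine ⟨key g hg x, fun hx => ?_⟩
  have h1 := key g⁻¹ (inv_mem hg) _ hx
  have h2 : g⁻¹ * (g * x * g⁻¹) * g⁻¹⁻¹ = x := by group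
  rwa [h2] at h1

/-- the members contained in `B` -/
theorem cc_of_le (w : TB Om) (ha : InZ Om a) (hM : M ∈ Om) (hle : M ≤ Ba Om a) : CC Om a (zz M) := by
  have hMm : Mem Om (zz M) M := ⟨hM, rfl⟩
  rcases eq_or_cc w ha hMm ⟨hM, hle.trans (Ba_le w)⟩ with h1 | h1
  · exfalso
    have hMa : Mem Om a M := ⟨hM, h1⟩
    have h2 : Ba Om a ≤ centralizer (M : Set G) := by
      refine sSup_le fun K hK k hk => ?_
      rw [mem_centralizer_iff]
      intro m hm
      exact hK.2.cm w hMa ⟨hK.1, rfl⟩ m hm k hk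
    obtain ⟨q, hq⟩ := w.w.exists_q3 hMm
    exact hq.not_comm (mem_centralizer_iff.1 (h2 (hle (hq.mem 1))) _ (hq.mem 0))
  · exact h1

theorem restr_Ba (w : TB Om) : restr (OmC Om a) (Ba Om a) = restr Om (Ba Om a) := by
  ext K
  rw [mem_restr, mem_restr]
  exact ⟨fun h => h.1, fun h => ⟨h, (map_subtype_le K).trans (Ba_le w)⟩⟩

theorem oddCore_Ba (w : TB Om) (hcore : oddCore ↥(centralizer ({a} : Set G)) = ⊥) : pPrimeCore 2 ↥(Ba Om a) = ⊥ := by
  have h1 : ((Ba Om a).subgroupOf (centralizer {a})).IsSubnormal :=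
    ((normal_subgroupOf_iff_le_normalizer (Ba_le w)).2 (le_normalizer_Ba w)).isSubnormal
  have h3 := Lib.PComponents.map_pPrimeCore_le_of_isSubnormal (p := 2) h1
  have hc : pPrimeCore 2 ↥(centralizer ({a} : Set G)) = ⊥ := hcore
  rw [hc, le_bot_iff, Subgroup.map_eq_bot_iff_of_injective _ (Subgroup.subtype_injective _)] at h3
  have h4 := Lib.Cores.map_equiv_pPrimeCore (subgroupOfEquivOfLe (Ba_le w (a := a))) 2
  rw [h3, Subgroup.map_bot] at h4
  exact h4.symm

theorem sSup_restr (Om : Set (Subgroup G)) (a : G) : sSup (restr Om (Ba Om a)) = ⊤ := by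
  have h1 : Ba Om a ≤ (sSup (restr Om (Ba Om a))).map (Ba Om a).subtype := by
    refine sSup_le fun K hK => ?_
    have hKB : K ≤ Ba Om a := le_Ba hK.1 hK.2
    have h2 : (K.subgroupOf (Ba Om a)).map (Ba Om a).subtype = K := map_subgroupOf_eq_of_le hKB
    have h3 : K.subgroupOf (Ba Om a) ≤ sSup (restr Om (Ba Om a)) := le_sSup (subgroupOf_mem_restr hK.1 hKB)
    calc K = _ := h2.symm
      _ ≤ _ := map_mono h3
  rw [eq_top_iff]
  intro x _
  obtain ⟨y, hy, hyx⟩ := h1 x.2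
  have h2 : y = x := Subtype.ext hyx
  rwa [h2] at hy

end

section

variable {G : Type u} [Group G] [Finite G] {Om : Set (Subgroup G)} {K L M N P : Subgroup G} {a b c d e s t u v x y z g : G}

namespace NC

variable (n : NC Om)

include n

/-- the world of the frame -/
theorem t0 (hcore : oddCore ↥(centralizer ({a} : Set G)) = ⊥) : T0 (restr Om (Ba Om a)) where
  hyp := n.b.w.hyp.restr _
  card K hK := by
    rw [← n.b.w.card _ (mem_restr.1 hK), card_map_of_injective (Ba Om a).subtype_injective]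
  core := oddCore_Ba n.b hcore

theorem conn (ha : InZ Om a) {K L : Subgroup ↥(Ba Om a)} (hK : K ∈ restr Om (Ba Om a))
    (hL : L ∈ restr Om (Ba Om a)) : L ∈ comp (restr Om (Ba Om a)) K := by
  have h1 := cc_of_le n.b ha (mem_restr.1 hK) (map_subtype_le K)
  have h2 := cc_of_le n.b ha (mem_restr.1 hL) (map_subtype_le L)
  have h3 : L.map (Ba Om a).subtype ∈ comp (OmC Om a) (K.map (Ba Om a).subtype) :=
    n.mem_comp h1 h2 ⟨mem_restr.1 hK, rfl⟩ ⟨mem_restr.1 hL, rfl⟩
  have h4 := Ind.SubB.subgroupOf_mem_comp (B := Ba Om a) (fun M hM => by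
    obtain ⟨v', h5, h6⟩ := (n.mem_comp_iff h1 ⟨mem_restr.1 hK, rfl⟩).1 hM
    exact le_Ba h6.1 (by rw [h6.2]; exact h5)) h3
  rw [restr_Ba n.b] at h4
  have h5 : ∀ X : Subgroup ↥(Ba Om a), (X.map (Ba Om a).subtype).subgroupOf (Ba Om a) = X := fun X =>
    comap_map_eq_self_of_injective (Ba Om a).subtype_injective X
  rwa [h5, h5] at h4

/-- not NIL -/
theorem not_nil (ha : InZ Om a) (hcore : oddCore ↥(centralizer ({a} : Set G)) = ⊥) {K : Subgroup ↥(Ba Om a)}
    (hK : K ∈ restr Om (Ba Om a)) : ¬ NIL K := by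
  intro hN
  have t := n.t0 hcore
  have hall : ∀ J ∈ restr Om (Ba Om a), zz J ∈ pCore 2 ↥(Ba Om a) := by
    intro J hJ
    by_contra h1
    exact Ind.Red.not_nil t h1 (n.conn ha hJ hK) hN
  obtain ⟨v, v', A, A', hv, hv', hA, hA', hb⟩ := n.exists_two ha
  have hmem : ∀ {v : G} {A : Subgroup G}, CC Om a v → Mem Om v A →
      v ∈ (pCore 2 ↥(Ba Om a)).map (Ba Om a).subtype := by
    intro v A hv hA
    have hAB : A ≤ Ba Om a := le_Ba hA.1 (by rw [hA.2]; exact hv)
    have h1 := hall _ (subgroupOf_mem_restr hA.1 hAB)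
    have h2 := zz_map n.b.w.hyp (subgroupOf_mem_restr hA.1 hAB)
    rw [map_subgroupOf_eq_of_le hAB, hA.2] at h2
    exact ⟨_, h1, h2⟩
  rw [hA.2, hA'.2] at hb
  rcases n.b.two _ ((Lib.Cores.pCore_isPGroup 2).map _) v (hmem hv hA) v' (hmem hv' hA') hv.2.1 hv'.2.1 with h1 | h1
  · exact hb h1
  · exact n.m2 a v v' hv hv' ⟨hv.2.1, hv'.2.1, h1⟩

/-- **the component of `B`** -/
theorem exists_sl (ha : InZ Om a) (hcore : oddCore ↥(centralizer ({a} : Set G)) = ⊥)
    (hev : ∀ (H : Type u) [Group H] [Finite H], EvQ H) : ∃ B L, SL Om a B L := by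
  have t := n.t0 hcore
  obtain ⟨v, v', A, A', hv, hv', hA, hA', -⟩ := n.exists_two ha
  have hAB : A ≤ Ba Om a := le_Ba hA.1 (by rw [hA.2]; exact hv)
  have hAr := subgroupOf_mem_restr hA.1 hAB
  obtain ⟨hpc, L, hL, hLn, huni, hzL, -⟩ := Ind.Red.exists_comp t (sSup_restr Om a)
    (fun K hK L hL => n.conn ha hK hL) (hev _) (hev _) hAr (n.not_nil ha hcore hAr)
  have hcen := Ind.centralizer_eq huni t.core hpc
  have hLe : ↥L ≃* ↥(L.map (Ba Om a).subtype) := L.equivMapOfInjective _ (Ba Om a).subtype_injective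
  have hsub : (L.map (Ba Om a).subtype).subgroupOf (Ba Om a) = L :=
    comap_map_eq_self_of_injective (Ba Om a).subtype_injective L
  refine ⟨Ba Om a, L.map (Ba Om a).subtype, ⟨map_subtype_le L, by rw [hsub]; exact hL.1,
    Cfsg.Agent.SignalizersComponents.QsBasic.isQuasisimple_of_mulEquiv hLe hL.2⟩, Ba_le n.b, ?_,
    fun K hK h => le_Ba hK h, ?_, ?_⟩
  · refine (normal_subgroupOf_iff_le_normalizer (map_subtype_le L)).1 ?_
    rw [hsub]; exact hLn
  · intro K hK h
    have hKB := le_Ba hK h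
    have h1 := hzL _ (subgroupOf_mem_restr hK hKB)
    have h2 := zz_map n.b.w.hyp (subgroupOf_mem_restr hK hKB)
    rw [map_subgroupOf_eq_of_le hKB] at h2
    exact ⟨_, h1, h2⟩
  · rintro _ ⟨x, hx, rfl⟩ hc b hb
    have h1 : x ∈ centralizer (L : Set ↥(Ba Om a)) := by
      rw [mem_centralizer_iff]
      intro l hl
      exact Subtype.ext (hc _ ⟨l, hl, rfl⟩).symm
    rw [hcen] at h1
    exact congrArg Subtype.val (mem_center_iff.1 h1 ⟨b, hb⟩).symm

end NC

end

end Cfsg.Agent.Cit.Nil.CompFour
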