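import Cfsg.Agent.Cit.Nil.RI.TSFour
import Cfsg.Agent.Cit.Nil.RG.TypeI

/-!
# S1309 (n5), `r = 4` with type I pairs: LEMMA SE (helper449's text, section 4)

* `SE.move` : `(z, t)` of type I, `L` over `t`: some `r ∈ R_z`, `r² = 1`, `r` commutes with `z`, `t`, moves `L` to another
  member over `t` (RI (1.2));
* `SE.exists_e` = **LEMMA SE**: `N` normalised by `R_z`, `R_t`, `g ∈ N`, `t = g z g⁻¹`: there is `e ∈ N ∩ R_t`, `e² = 1`,
  `e = a b`, `a`, `b` of order 4 in two different members `L₁`, `L₂` over `t`, `e` centralises the other members over `t`;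
* `SE.exists_e'` : the same, with `e` centralising one member over `t`, not centralising another one, and no `e c`,
  `c` centralising `R_t`, in `Z`;
* `SE.eq_or_cp`, `SE.false_of_conj`, `SE.false_of_conj'` : `N` normalised by `R_z`, `R_t`, `z, t ∈ N`, `D ≤ C(R_t)`,
  all involutions of `N` outside `D` conjugate modulo `D`: `False`.
-/

set_option autoImplicit false
set_option linter.style.haveILetI false
set_option linter.unusedSectionVars false

namespace Cfsg.Agent.Cit.Nil.CompFour.SE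

open Subgroup Cfsg Cfsg.Agent.Cit
open Cfsg.Agent.Cit.Nil.RI
open RG (WR CP Ov)

variable {G : Type*} [Group G] [Finite G] {Om : Set (Subgroup G)} {K L M N D : Subgroup G}
  {a b c d e s t u v x y z g : G}

/-- the bridge to `RG` -/
theorem rg (h : WM Om) (hti : TI Om z t) : RG.TI Om z t := by
  have key : ∀ {z t : G}, TI Om z t → RG.IN Om t z := by
    intro z t hti K hK
    obtain ⟨y, hy, hyy⟩ := hti.exists_as h (K := K) hK
    exact ⟨y, hy.1, hyy, hy.2⟩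
  exact ⟨key (hti.symm h), key hti⟩

theorem ax (hK : Mem Om z K) (hy : As K t y) (hyy : y * y = z) : RG.Ax t K y where
  mem := hy.1
  sq := hyy.trans hK.2.symm
  act := hy.2

/-- an element of order four off the axis -/
theorem exists_off (h : WM Om) (hti : TI Om z t) (hK : Mem Om z K) :
    ∃ y u, As K t y ∧ y * y = z ∧ u ∈ K ∧ u * u = z ∧ u ≠ y ∧ u ≠ y⁻¹ := by
  obtain ⟨y, hy, hyy⟩ := hti.exists_as h hK
  obtain ⟨u, hu, huu, hyu⟩ := hK.exists_nc h hy.1 hyy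
  refine ⟨y, u, hy, hyy, hu, huu, ?_, ?_⟩
  · rintro rfl; exact hyu rfl
  · rintro rfl; exact hyu (by rw [mul_inv_cancel, inv_mul_cancel])

/-- RI (1.2) -/
theorem move (h : WM Om) (hti : TI Om z t) (hL : Mem Om t L) :
    ∃ r ∈ RZ Om z, r * r = 1 ∧ r * z = z * r ∧ r * t = t * r ∧ Mem Om t (cj r L) ∧ cj r L ≠ L := by
  obtain ⟨F, f⟩ := hti.inZ.exists_fr h
  obtain ⟨y, u, hy, hyy, hu, huu, h1, h2⟩ := exists_off h hti (f.mem 0)
  obtain ⟨y', u', hy', hyy', hu', huu', h1', h2'⟩ := exists_off h hti (f.mem 1)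
  obtain ⟨w, hw, hww⟩ := (hti.symm h).exists_as h hL
  obtain ⟨m1, m2, m3, m4, m5, -⟩ := h.wr.move (rg h (hti.symm h)) (K := L) hL (L := F 0) (f.mem 0) (L' := F 1) (f.mem 1)
    (f.ne (by decide)) ⟨F 2, f.mem 2, f.ne (by decide), f.ne (by decide)⟩ (ax hL hw hww) (ax (f.mem 0) hy hyy)
    (ax (f.mem 1) hy' hyy') hu (huu.trans (f.mem 0).2.symm) h1 h2 hu' (huu'.trans (f.mem 1).2.symm) h1' h2'
  exact ⟨u * u', mul_mem ((f.mem 0).le_RZ hu) ((f.mem 1).le_RZ hu'), m3, m2, m1, m4, m5⟩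

/-- elements of `R_t` fix the members over `t` -/
theorem cj_eq_of_mem_RZ (h : WM Om) (hL : Mem Om t L) (hr : x ∈ RZ Om t) : cj x L = L := by
  obtain ⟨y, hy⟩ := exists_as_of_mem h hL hr
  exact hy.cj_eq

/-- **LEMMA SE** -/
theorem exists_e (h : WM Om) (hti : TI Om z t) (hz : RZ Om z ≤ normalizer (N : Set G))
    (ht : RZ Om t ≤ normalizer (N : Set G)) (hg : g ∈ N) (hgt : g * z * g⁻¹ = t) :
    ∃ L₁ L₂ a b, Mem Om t L₁ ∧ Mem Om t L₂ ∧ L₁ ≠ L₂ ∧ a ∈ L₁ ∧ b ∈ L₂ ∧ a * a = t ∧ b * b = t ∧ a * b ∈ N ∧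
      a * b ∈ RZ Om t ∧ (a * b) * (a * b) = 1 := by
  obtain ⟨L, hL⟩ := hti.inT
  obtain ⟨r, hr, -, hrz, -, hm, hne⟩ := move h hti hL
  -- `r' = g r g⁻¹ ∈ R_t`
  have hr' : g * r * g⁻¹ ∈ RZ Om t := by
    have := RZ_conj h g hr
    rwa [hgt] at this
  obtain ⟨q, hq⟩ : ∃ q, q = g * r * g⁻¹ := ⟨_, rfl⟩
  rw [← hq] at hr'
  obtain ⟨lam, hlam⟩ : ∃ lam, lam = q⁻¹ * r := ⟨_, rfl⟩
  have hlamN : lam ∈ N := by
    have h1 : r⁻¹ * g⁻¹ * r⁻¹⁻¹ ∈ N :=
      (mem_normalizer_iff.1 (inv_mem (hz hr)) g⁻¹).1 (inv_mem hg)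
    have h2 : lam = g * (r⁻¹ * g⁻¹ * r⁻¹⁻¹) := by rw [hlam, hq]; group
    rw [h2]
    exact mul_mem hg h1
  have hcj : cj lam L = cj r L := by
    rw [hlam, cj_mul]
    exact cj_eq_of_mem_RZ h hm (inv_mem hr')
  obtain ⟨l, hl, hll⟩ : ∃ l ∈ L, l * l = t := by
    obtain ⟨w, hw, hww⟩ := (hti.symm h).exists_as h hL
    exact ⟨w, hw.1, hww⟩
  have hlN : l ∈ normalizer (N : Set G) := ht (hL.le_RZ hl)
  have hlamt : lam * t * lam⁻¹ = t := by
    have h1 := hL.cj h lam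
    rw [hcj] at h1
    exact h1.2.symm.trans hm.2
  have htt := hti.inT.z2 h
  refine ⟨L, cj r L, l⁻¹, lam * l * lam⁻¹, hL, hm, hne.symm, inv_mem hl, ?_, ?_, ?_, ?_, ?_, ?_⟩
  · rw [← hcj]; exact conj_mem_cj hl
  · rw [← mul_inv_rev, hll]; exact hti.inT.inv h
  · calc lam * l * lam⁻¹ * (lam * l * lam⁻¹) = lam * (l * l) * lam⁻¹ := by group
      _ = t := by rw [hll, hlamt]
  · have h1 : l⁻¹ * lam * l⁻¹⁻¹ ∈ N := (mem_normalizer_iff.1 (inv_mem hlN) lam).1 hlamN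
    have h2 : l⁻¹ * (lam * l * lam⁻¹) = (l⁻¹ * lam * l⁻¹⁻¹) * lam⁻¹ := by group
    rw [h2]
    exact mul_mem h1 (inv_mem hlamN)
  · refine mul_mem (inv_mem (hL.le_RZ hl)) (hm.le_RZ ?_)
    rw [← hcj]; exact conj_mem_cj hl
  · have h1 : lam * l * lam⁻¹ ∈ cj r L := by rw [← hcj]; exact conj_mem_cj hl
    have h2 : l⁻¹ * (lam * l * lam⁻¹) = (lam * l * lam⁻¹) * l⁻¹ := hL.comm hm h hne.symm (inv_mem hl) h1
    have h3 : lam * l * lam⁻¹ * (lam * l * lam⁻¹) = t := by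
      calc lam * l * lam⁻¹ * (lam * l * lam⁻¹) = lam * (l * l) * lam⁻¹ := by group
        _ = t := by rw [hll, hlamt]
    calc l⁻¹ * (lam * l * lam⁻¹) * (l⁻¹ * (lam * l * lam⁻¹))
        = l⁻¹ * (lam * l * lam⁻¹) * ((lam * l * lam⁻¹) * l⁻¹) := by rw [h2]
      _ = l⁻¹ * (lam * l * lam⁻¹ * (lam * l * lam⁻¹)) * l⁻¹ := by group
      _ = l⁻¹ * (l * l) * l⁻¹ := by rw [h3, hll]
      _ = 1 := by group

/-- **LEMMA SE**, second form -/
theorem exists_e' (h : WM Om) (hti : TI Om z t) (hz : RZ Om z ≤ normalizer (N : Set G))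
    (ht : RZ Om t ≤ normalizer (N : Set G)) (hg : g ∈ N) (hgt : g * z * g⁻¹ = t) :
    ∃ e ∈ N, e ∈ RZ Om t ∧ e ≠ 1 ∧ e * e = 1 ∧ (∃ L, Mem Om t L ∧ ∀ k ∈ L, e * k = k * e) ∧
      (∃ L, Mem Om t L ∧ ¬ ∀ k ∈ L, e * k = k * e) ∧ ∀ c ∈ CX Om t, ¬ InZ Om (e * c) := by
  obtain ⟨L₁, L₂, a, b, hL1, hL2, hne, ha, hb, haa, hbb, hN, hR, hee⟩ := exists_e h hti hz ht hg hgt
  obtain ⟨L₃, hL3, h31, h32⟩ := hL1.third hL2 h
  have hc3 : ∀ k ∈ L₃, a * b * k = k * (a * b) := by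
    intro k hk
    have h1 : a * k = k * a := hL1.comm hL3 h (Ne.symm h31) ha hk
    have h2 : b * k = k * b := hL2.comm hL3 h (Ne.symm h32) hb hk
    rw [mul_assoc, h2, ← mul_assoc, h1, mul_assoc]
  have hn1 : ¬ ∀ k ∈ L₁, a * b * k = k * (a * b) := by
    intro h1
    have h2 : As L₁ (a * b) a := by
      refine ⟨ha, fun k hk => ?_⟩
      have h3 : b * k = k * b := (hL1.comm hL2 h hne hk hb).symm
      calc a * b * k * (a * b)⁻¹ = a * (b * k) * b⁻¹ * a⁻¹ := by group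
        _ = a * (k * b) * b⁻¹ * a⁻¹ := by rw [h3]
        _ = a * k * a⁻¹ := by group
    exact hL1.not_as_one h h2 haa (As.one_iff.2 h1)
  refine ⟨a * b, hN, hR, ?_, hee, ⟨L₃, hL3, hc3⟩, ⟨L₁, hL1, hn1⟩, ?_⟩
  · intro h1
    exact hn1 fun k _ => by rw [h1, one_mul, mul_one]
  · intro c hc hZ
    rw [mem_CX] at hc
    by_cases h1 : t = a * b * c
    · -- `e c = t` centralises `L₁`
      refine hn1 fun k hk => ?_
      have h2 := hc L₁ hL1 k hk
      have h3 : k * (a * b * c) = a * b * c * k := by rw [← h1]; exact hL1.comm_z h hk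
      have h4 : a * b * k * c = k * (a * b) * c := by
        calc a * b * k * c = a * b * (k * c) := by group
          _ = a * b * (c * k) := by rw [h2]
          _ = a * b * c * k := by group
          _ = k * (a * b * c) := h3.symm
          _ = k * (a * b) * c := by group
      exact mul_right_cancel h4
    · have h2 : ∀ k ∈ L₃, a * b * c * k = k * (a * b * c) := by
        intro k hk
        rw [mul_assoc (a * b), hc L₃ hL3 k hk, ← mul_assoc, hc3 k hk, mul_assoc]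
      have h3 := InZ.cent_all hL3 hZ h h1 h2 hL1
      refine hn1 fun k hk => ?_
      have h4 : a * b * k * c = k * (a * b) * c := by
        calc a * b * k * c = a * b * (k * c) := by group
          _ = a * b * (c * k) := by rw [hc L₁ hL1 k hk]
          _ = a * b * c * k := by group
          _ = k * (a * b * c) := h3 k hk
          _ = k * (a * b) * c := by group
      exact mul_right_cancel h4

/-- `x = t c ∈ Z`, `c` centralises `R_t`: `x = t` or `(t, x)` is a C-pair -/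
theorem eq_or_cp (h : WM Om) (ht : InZ Om t) (hc : c ∈ CX Om t) :
    t * c = t ∨ CP Om t (t * c) := by
  by_cases hne : t * c = t
  · exact Or.inl hne
  obtain ⟨L, hL⟩ := ht
  refine Or.inr (h.wr.CP_of_cen (K := L) hL (fun k hk => ?_) (Ne.symm hne))
  have h2 := mem_CX.1 hc L hL k hk
  calc t * c * k = t * (c * k) := by group
    _ = t * (k * c) := by rw [h2]
    _ = t * k * c := by group
    _ = k * t * c := by rw [hL.comm_z h hk]
    _ = k * (t * c) := by group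

/-- **the use of LEMMA SE**: `N/D` cannot have all its involutions conjugate -/
theorem false_of_conj (h : WM Om) (hti : TI Om z t) (hz : RZ Om z ≤ normalizer (N : Set G))
    (ht : RZ Om t ≤ normalizer (N : Set G)) (hzN : z ∈ N) (htN : t ∈ N) (hDX : D ≤ CX Om t) (htD : t ∉ D)
    (hD : ∀ c ∈ D, ∀ g ∈ N, g * z * g⁻¹ = t * c → g * z * g⁻¹ = t)
    (hconj : ∀ x ∈ N, ∀ y ∈ N, x * x = 1 → x ∉ D → y * y = 1 → y ∉ D → ∃ g ∈ N, ∃ c ∈ D, g * x * g⁻¹ = y * c) :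
    False := by
  have hzz := hti.inZ.z2 h
  have htt := hti.inT.z2 h
  have hzD : z ∉ D := fun h1 => by
    obtain ⟨L, hL⟩ := hti.inT
    exact (hti.symm h).nc hL fun k hk => (mem_CX.1 (hDX h1) L hL k hk)
  obtain ⟨g, hg, c, hc, h1⟩ := hconj z hzN t htN hzz hzD htt htD
  obtain ⟨e, heN, -, -, hee, -, ⟨L, hL, hnc⟩, hnZ⟩ := exists_e' h hti hz ht hg (hD c hc g hg h1)
  have heD : e ∉ D := fun h2 => hnc fun k hk => mem_CX.1 (hDX h2) L hL k hk
  obtain ⟨g', -, c', hc', h2⟩ := hconj z hzN e heN hzz hzD hee heD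
  refine hnZ c' (hDX hc') ?_
  rw [← h2]
  exact hti.inZ.conj h g'

/-- `D = 1` -/
theorem false_of_conj' (h : WM Om) (hti : TI Om z t) (hz : RZ Om z ≤ normalizer (N : Set G))
    (ht : RZ Om t ≤ normalizer (N : Set G)) (hzN : z ∈ N) (htN : t ∈ N)
    (hconj : ∀ x ∈ N, ∀ y ∈ N, x * x = 1 → x ≠ 1 → y * y = 1 → y ≠ 1 → ∃ g ∈ N, g * x * g⁻¹ = y) : False := by
  refine false_of_conj (D := ⊥) h hti hz ht hzN htN bot_le (fun h1 => hti.inT.z1 h (mem_bot.1 h1)) ?_ ?_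
  · intro c hc g _ h1
    rwa [mem_bot.1 hc, mul_one] at h1
  · intro x hx y hy h1 h2 h3 h4
    obtain ⟨g, hg, h5⟩ := hconj x hx y hy h1 (fun h6 => h2 (mem_bot.2 h6)) h3 (fun h6 => h4 (mem_bot.2 h6))
    exact ⟨g, hg, 1, one_mem _, by rw [mul_one]; exact h5⟩

end Cfsg.Agent.Cit.Nil.CompFour.SE
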