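import Cfsg.Agent.Cit.Nil.CompFour.SecDef
import Cfsg.Agent.Cit.Nil.CompFour.SE
import Cfsg.Agent.Cit.Nil.RI.Closed

/-!
# S1309, node (n5), section 5: (5.2) of `blueprints/R18-6b-n5-helper449.md` (helper488)

`SL.false` : there is no `B`, `L` as in `SL` if (EQ) fails and there is no 3-clique.

* `MD w a z = {g ∈ C(a) | z ~ z^g}` (same C-partners);
* `MD.of_mem` : `x ∈ MD`, `x` a C-partner of `a`, implies `z ~ x`;
* `SL.exists_se` : (C1), (C2), S1175 for `L/Z(L)`;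
* `SL.false` : all involutions of `L/Z(L)` are conjugate, LEMMA SE.
-/

set_option autoImplicit false
set_option linter.style.haveILetI false
set_option linter.unusedSectionVars false

namespace Cfsg.Agent.Cit.Nil.CompFour

open Subgroup Cfsg Cfsg.Agent.Cit Cfsg.Agent.Cit.Nil.RI Cfsg.Agent.Cit.Nil.IndDefs

open RG (WR CP Ov)

variable {G : Type*} [Group G] [Finite G] {Om : Set (Subgroup G)} {K M N P B L : Subgroup G}
  {a b c d e s t u v x y z g m h : G}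

/-- (5.1) as a proposition -/
def Five (Om : Set (Subgroup G)) : Prop :=
  ∀ (c e v : G) (K L : Subgroup G), InZ Om c → e ∈ RZ Om c → e * e = 1 → e ≠ 1 → Mem Om c K → K ∈ OmC Om e →
    Mem Om v L → L ∈ OmC Om e → CC Om v c ∨ Eqv Om v c

section

variable (n : NC Om)

include n

theorem NC.not_cc (hz : CC Om a z) (hx : CC Om a x) : ¬ CC Om z x := fun h => n.m2 a z x hz hx h

theorem NC.blk_of_comm (hz : CC Om a z) (hx : CC Om a x) (h : z * x = x * z) : Blk Om z x := by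
  rcases n.b.cases hz.2.1 hx.2.1 h with h1 | h1
  · exact (n.not_cc hz hx h1).elim
  · exact h1

theorem NC.blk_of_two (hz : CC Om a z) (hx : CC Om a x) (hP : IsPGroup 2 P) (hzP : z ∈ P) (hxP : x ∈ P) :
    Blk Om z x := by
  rcases n.b.cases_two hP hzP hxP hz.2.1 hx.2.1 with h1 | h1
  · exact (n.not_cc hz hx h1).elim
  · exact h1

/-- an element of `Z ∩ a₀(a)` centralising a member over `z ∈ a₀(a)` -/
theorem NC.eq_of_cent (hz : CC Om a z) (hx : CC Om a x) (hK : Mem Om z K) (h : ∀ k ∈ K, x * k = k * x) : x = z := by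
  by_contra hne
  exact n.not_cc hz hx (CC.of_cent n.b hK hx.2.1 (Ne.symm hne) h)

omit n [Finite G] in
theorem conj_of_comm [Finite G] (w : TB Om) (hz : CC Om a z) (hg : g * a = a * g) : CC Om a (g * z * g⁻¹) := by
  have h1 := hz.conj w g
  rwa [hg, mul_inv_cancel_right] at h1

end

/-- `{g ∈ C(a) | z ~ z^g}` -/
def MD (w : TB Om) (a z : G) : Subgroup G where
  carrier := {g | g * a = a * g ∧ Eqv Om z (g * z * g⁻¹)}
  mul_mem' := by
    rintro g h ⟨hg, hg'⟩ ⟨hh, hh'⟩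
    refine ⟨by rw [mul_assoc, hh, ← mul_assoc, hg, mul_assoc], ?_⟩
    have h1 := Eqv.conj w hh' g
    have h2 : g * (h * z * h⁻¹) * g⁻¹ = g * h * z * (g * h)⁻¹ := by group
    rw [h2] at h1
    exact hg'.trans h1
  one_mem' := by
    refine ⟨by rw [one_mul, mul_one], ?_⟩
    have h1 : (1 : G) * z * 1⁻¹ = z := by group
    rw [h1]; exact Eqv.refl z
  inv_mem' := by
    rintro g ⟨hg, hg'⟩
    refine ⟨by rw [inv_mul_eq_iff_eq_mul, ← mul_assoc, hg, mul_inv_cancel_right], ?_⟩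
    have h1 := Eqv.conj w hg'.symm g⁻¹
    have h2 : g⁻¹ * (g * z * g⁻¹) * g⁻¹⁻¹ = z := by group
    rwa [h2] at h1

theorem mem_MD {w : TB Om} : g ∈ MD w a z ↔ g * a = a * g ∧ Eqv Om z (g * z * g⁻¹) := Iff.rfl

theorem mem_MD_of_comm {w : TB Om} (ha : g * a = a * g) (hz : g * z = z * g) : g ∈ MD w a z := by
  refine ⟨ha, ?_⟩
  rw [hz, mul_inv_cancel_right]
  exact Eqv.refl z

/-- `z ~ x` gives the same subgroup -/
theorem mem_MD_iff_of_eqv {w : TB Om} (he : Eqv Om z x) (h : g ∈ MD w a x) : g ∈ MD w a z :=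
  ⟨h.1, (he.trans h.2).trans (Eqv.conj w he.symm g)⟩

theorem MD.of_mem (n : NC Om) (hz : CC Om a z) (hx : CC Om a x) (hxM : x ∈ MD n.b a z) : Eqv Om z x := by
  haveI : Fact (Nat.Prime 2) := ⟨Nat.prime_two⟩
  have hzM : z ∈ MD n.b a z := mem_MD_of_comm (hz.comm n.b).symm rfl
  have hp : ∀ {y : G}, InZ Om y → y ∈ MD n.b a z → ∃ S : Sylow 2 ↥(MD n.b a z), ∀ h : y ∈ MD n.b a z,
      (⟨y, h⟩ : ↥(MD n.b a z)) ∈ S := by
    intro y hy hyM
    have h1 : IsPGroup 2 (zpowers (⟨y, hyM⟩ : ↥(MD n.b a z))) := by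
      refine IsPGroup.of_card (n := 1) ?_
      rw [Nat.card_zpowers, pow_one]
      refine orderOf_eq_prime ?_ ?_
      · rw [pow_two]; exact Subtype.ext (hy.z2 n.b.w)
      · intro h; exact hy.z1 n.b.w (congrArg Subtype.val h)
    obtain ⟨S, hS⟩ := h1.exists_le_sylow
    exact ⟨S, fun _ => hS (mem_zpowers _)⟩
  obtain ⟨S, hS⟩ := hp hz.2.1 hzM
  obtain ⟨T, hT⟩ := hp hx.2.1 hxM
  obtain ⟨m, hm⟩ := MulAction.exists_smul_eq ↥(MD n.b a z) S T
  have h2 : m * ⟨z, hzM⟩ * m⁻¹ ∈ (T : Subgroup ↥(MD n.b a z)) := by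
    rw [← hm, Sylow.coe_subgroup_smul]
    exact Subgroup.smul_mem_pointwise_smul _ (MulAut.conj m) _ (hS _)
  have hP : IsPGroup 2 ((T : Subgroup ↥(MD n.b a z)).map (MD n.b a z).subtype) := T.isPGroup'.map _
  have h3 : (m : G) * z * (m : G)⁻¹ ∈ (T : Subgroup ↥(MD n.b a z)).map (MD n.b a z).subtype := ⟨_, h2, rfl⟩
  have h4 : x ∈ (T : Subgroup ↥(MD n.b a z)).map (MD n.b a z).subtype := ⟨_, hT hxM, rfl⟩
  exact m.2.2.trans (Eqv.of_blk n.b (n.blk_of_two (conj_of_comm n.b hz m.2.1) hx hP h3 h4))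

namespace SL

variable (n : NC Om) (S : SL Om a B L)

include S

theorem la {l : G} (hl : l ∈ B) : l * a = a * l := mem_centralizer_singleton_iff.1 (S.Ba hl)

theorem memB (hz : CC Om a z) (hK : Mem Om z K) : K ≤ B := S.mem K hK.1 (by rw [hK.2]; exact hz)

theorem zmem (hz : CC Om a z) : z ∈ L := by
  obtain ⟨K, hK⟩ := id hz.2.1
  have h1 := S.zL K hK.1 (by rw [hK.2]; exact hz)
  rwa [hK.2] at h1

/-- the centre of `L` centralises the members over `a₀(a)` -/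
theorem cen_mem (hz : CC Om a z) (hK : Mem Om z K) {x : G} (hx : x ∈ L) (hc : ∀ l ∈ L, x * l = l * x) :
    ∀ k ∈ K, x * k = k * x := fun _ hk => S.cen x hx hc _ (S.memB hz hK hk)

include n

theorem RB (hz : CC Om a z) : RZ Om z ≤ B := by
  refine sSup_le fun K hK => S.memB hz hK

/-- `z` is not central in `L` -/
theorem not_cent (hz : CC Om a z) (h : ∀ l ∈ L, l * z = z * l) : False := by
  obtain ⟨t, ht⟩ := n.b.ti z hz.2.1
  obtain ⟨K, hK⟩ := ht.inT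
  exact (ht.symm n.b.w).nc hK (S.cen_mem (hz.blk' n.b ht.blk) hK (S.zmem hz) fun l hl => (h l hl).symm)

omit n in
theorem pi_one {x : ↥L} (h : QuotientGroup.mk' (center ↥L) x = 1) : ∀ l ∈ L, (x : G) * l = l * x := by
  have h1 := (QuotientGroup.eq_one_iff _).1 h
  intro l hl
  exact (congrArg Subtype.val (mem_center_iff.1 h1 ⟨l, hl⟩)).symm

omit n in
theorem pi_eq {x y : ↥L} (h : QuotientGroup.mk' (center ↥L) x = QuotientGroup.mk' (center ↥L) y) :
    ∀ l ∈ L, (x : G) * (y : G)⁻¹ * l = l * ((x : G) * (y : G)⁻¹) := by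
  have h1 : QuotientGroup.mk' (center ↥L) (x * y⁻¹) = 1 := by rw [map_mul, map_inv, h, mul_inv_cancel]
  exact S.pi_one h1

theorem order_pi (hz : CC Om a z) : orderOf (QuotientGroup.mk' (center ↥L) ⟨z, S.zmem hz⟩) = 2 := by
  refine orderOf_eq_prime ?_ fun h1 => S.not_cent n hz fun l hl => (S.pi_one h1 l hl).symm
  rw [pow_two, ← map_mul]
  have e : (⟨z, S.zmem hz⟩ : ↥L) * ⟨z, S.zmem hz⟩ = 1 := Subtype.ext (hz.2.1.z2 n.b.w)
  rw [e, map_one]

/-- elements of `a₀(a)` which are equal modulo `Z(L)` are equal -/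
theorem eq_of_pi (hz : CC Om a z) (hx : CC Om a x) {c : G} (hcL : c ∈ L) (hc : ∀ l ∈ L, c * l = l * c)
    (h : x = z * c) : x = z := by
  obtain ⟨K, hK⟩ := id hz.2.1
  refine n.eq_of_cent hz hx hK fun k hk => ?_
  rw [h, mul_assoc, S.cen_mem hz hK hcL hc k hk, ← mul_assoc, ← hK.comm_z n.b.w hk, mul_assoc]

/-- `z` is central in a Sylow 2-subgroup of `L` -/
theorem exists_sylow (hz : CC Om a z) : ∃ P : Subgroup G, Syl P B ∧ z ∈ P ∧ ∀ p ∈ P, p * z = z * p := by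
  obtain ⟨K, hK⟩ := id hz.2.1
  obtain ⟨P, hP, hKP⟩ := OneBasic.exists_syl_ge (n.b.w.isPGroup hK.1) (S.memB hz hK)
  refine ⟨P, hP, hKP (hK.zmem n.b.w), fun p hp => ?_⟩
  have h1 : z ∈ CS Om P := ⟨K, hK, hKP⟩
  have h2 : p * z * p⁻¹ ∈ CS Om P := CS_conj n.b.w.wr h1 hp
  have h3 := conj_of_comm n.b hz (S.la (hP.1 hp))
  by_contra hne
  have h4 : z ≠ p * z * p⁻¹ := by
    intro h5
    apply hne
    rw [eq_mul_inv_iff_mul_eq] at h5
    exact h5.symm
  exact n.not_cc hz h3 ⟨hz.2.1, h3.2.1, CS_cp n.b.w.wr hP.2.1 h1 h2 h4⟩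

/-- **(C1), (C2), S1175** -/
theorem exists_se (five : Five Om) (hcrit : CloEnd.Crit1175 (↥L ⧸ center ↥L)) (hz : CC Om a z) (hx : CC Om a x)
    (hne : ¬ Eqv Om z x) : ∃ H : Subgroup (↥L ⧸ center ↥L), IsStronglyEmbedded H := by
  haveI : Fact (Nat.Prime 2) := ⟨Nat.prime_two⟩
  have hzL := S.zmem hz
  have hz2 := hz.2.1.z2 n.b.w
  have hzi := hz.2.1.inv n.b.w
  set π := QuotientGroup.mk' (center ↥L) with hπ
  have hsur : Function.Surjective π := QuotientGroup.mk'_surjective _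
  set M := (MD n.b a z).subgroupOf L with hM
  have hzMD : z ∈ MD n.b a z := mem_MD_of_comm (hz.comm n.b).symm rfl
  have hmem : ∀ d : ↥L, π d ∈ M.map π → (d : G) ∈ MD n.b a z := by
    rintro d ⟨m, hm, hmd⟩
    have h1 := S.pi_eq hmd.symm
    have h3 : (d : G) * (m : G)⁻¹ ∈ L := mul_mem d.2 (inv_mem m.2)
    have h2 : (d : G) * (m : G)⁻¹ ∈ MD n.b a z := mem_MD_of_comm (S.la (S.C.le h3)) (h1 z hzL)
    have e : (d : G) = (d : G) * (m : G)⁻¹ * m := by group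
    rw [e]
    exact mul_mem h2 hm
  have hconj : ∀ d : ↥L, CC Om a ((d : G) * z * (d : G)⁻¹) := fun d => conj_of_comm n.b hz (S.la (S.C.le d.2))
  obtain ⟨P, hP, hzP, hPz⟩ := S.exists_sylow n hz
  obtain ⟨Q, hQ⟩ := (S.C.syl_inf hP).exists_sylow
  refine hcrit (M.map π) ?_ (π ⟨z, hzL⟩) (S.order_pi n hz) ⟨⟨z, hzL⟩, hzMD, rfl⟩ ?_ ?_ ?_
  · intro h1
    have h2 := hmem ⟨x, S.zmem hx⟩ (by rw [h1]; exact mem_top _)
    exact hne (MD.of_mem n hz hx h2)
  · refine ⟨Q.mapSurjective hsur, ?_, ?_⟩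
    · show π ⟨z, hzL⟩ ∈ ((Q.mapSurjective hsur : Sylow 2 _) : Subgroup _)
      rw [Sylow.coe_mapSurjective]
      refine ⟨⟨z, hzL⟩, ?_, rfl⟩
      show _ ∈ (Q : Subgroup ↥L)
      rw [hQ]
      exact ⟨hzP, hzL⟩
    · intro s hs
      have hs' : s ∈ (Q : Subgroup ↥L).map π := by
        rw [← Sylow.coe_mapSurjective hsur Q]; exact hs
      obtain ⟨t, ht, rfl⟩ := hs'
      have ht' : t ∈ (Q : Subgroup ↥L) := ht
      rw [hQ] at ht'
      show π t * π ⟨z, hzL⟩ = π ⟨z, hzL⟩ * π t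
      rw [← map_mul, ← map_mul]
      congr 1
      exact Subtype.ext (hPz _ ht'.1)
  · intro g hg
    obtain ⟨d, rfl⟩ := hsur g
    rw [← map_inv, ← map_mul, ← map_mul] at hg
    have h1 := hmem _ hg
    have h2 := MD.of_mem n hz (hconj d) h1
    exact ⟨d, ⟨S.la (S.C.le d.2), h2⟩, rfl⟩
  · intro g hg hne' y hy
    obtain ⟨d, rfl⟩ := hsur g
    obtain ⟨h, rfl⟩ := hsur y
    rw [← map_inv, ← map_mul, ← map_mul] at hg hne' hy
    rw [mem_centralizer_singleton_iff] at hy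
    have hcb := hconj d
    have hbL : (d : G) * z * (d : G)⁻¹ ∈ L := mul_mem (mul_mem d.2 hzL) (inv_mem d.2)
    set b := (d : G) * z * (d : G)⁻¹ with hb
    have hbd : d * ⟨z, hzL⟩ * d⁻¹ = (⟨b, hbL⟩ : ↥L) := rfl
    rw [hbd] at hg hne' hy
    have hzb : z ≠ b := by
      intro h1
      apply hne'
      congr 1
      exact Subtype.ext h1.symm
    have hb2 := hcb.2.1.z2 n.b.w
    have hbi := hcb.2.1.inv n.b.w
    -- `z` and `b` commute
    have hc : z * b = b * z := by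
      have h1 : π (⟨z, hzL⟩ * ⟨b, hbL⟩) = π (⟨b, hbL⟩ * ⟨z, hzL⟩) := by
        rw [map_mul, map_mul]
        exact hg
      have h2 := S.pi_eq h1
      change ∀ l ∈ L, z * b * (b * z)⁻¹ * l = l * (z * b * (b * z)⁻¹) at h2
      have h3 : b * z * b⁻¹ = z * (z * b * (b * z)⁻¹) := by
        calc b * z * b⁻¹ = (z * z) * (b * z⁻¹ * b⁻¹) := by rw [hz2, one_mul, hzi]
          _ = _ := by group
      have h4 := S.eq_of_pi n hz (conj_of_comm n.b hz (S.la (S.C.le hbL)))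
        (mul_mem (mul_mem hzL hbL) (inv_mem (mul_mem hbL hzL))) h2 h3
      rw [mul_inv_eq_iff_eq_mul] at h4
      exact h4.symm
    have hblk := n.blk_of_comm hz hcb hc
    obtain ⟨c, hzc, heR, K, hK, hKe⟩ := n.b.tsb z b hz.2.1 hcb.2.1 hc hzb hblk
    have hac : CC Om a c := hz.blk' n.b hzc
    have hee : z * b * (z * b) = 1 := by
      calc z * b * (z * b) = z * (b * z) * b := by group
        _ = z * (z * b) * b := by rw [hc]
        _ = (z * z) * (b * b) := by group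
        _ = 1 := by rw [hz2, hb2, one_mul]
    have he1 : z * b ≠ 1 := by
      intro h1
      apply hzb
      rw [← hbi, eq_inv_iff_mul_eq_one]
      exact h1
    -- `e^h = e ζ`
    have h1 : π (h * (⟨z, hzL⟩ * ⟨b, hbL⟩)) = π ((⟨z, hzL⟩ * ⟨b, hbL⟩) * h) := by
      rw [map_mul, map_mul, map_mul, map_mul]
      exact hy
    have h2 := S.pi_eq h1
    change ∀ l ∈ L, (h : G) * (z * b) * (z * b * (h : G))⁻¹ * l = l * ((h : G) * (z * b) * (z * b * (h : G))⁻¹) at h2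
    have hζL : (h : G) * (z * b) * (z * b * (h : G))⁻¹ ∈ L :=
      mul_mem (mul_mem h.2 (mul_mem hzL hbL)) (inv_mem (mul_mem (mul_mem hzL hbL) h.2))
    have hha := S.la (S.C.le h.2)
    have hK' : Mem Om ((h : G) * c * (h : G)⁻¹) (cj h K) := hK.cj n.b.w h
    have hac' : CC Om a ((h : G) * c * (h : G)⁻¹) := conj_of_comm n.b hac hha
    have hKe' : cj (h : G) K ∈ OmC Om (z * b) := by
      refine ⟨hK'.1, ?_⟩
      intro k' hk'
      rw [mem_centralizer_singleton_iff]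
      have f1 := S.cen_mem hac' hK' hζL h2 k' hk'
      rw [mem_cj] at hk'
      have f2 := hKe _ hk'
      -- `k'` commutes with `e^h`
      have f3 : k' * ((h : G) * (z * b) * (h : G)⁻¹) = (h : G) * (z * b) * (h : G)⁻¹ * k' := by
        calc k' * ((h : G) * (z * b) * (h : G)⁻¹) = (h : G) * (((h : G)⁻¹ * k' * h) * (z * b)) * (h : G)⁻¹ := by group
          _ = (h : G) * ((z * b) * ((h : G)⁻¹ * k' * h)) * (h : G)⁻¹ := by rw [f2]
          _ = _ := by group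
      obtain ⟨ζ, hζ⟩ : ∃ ζ, ζ = (h : G) * (z * b) * (z * b * (h : G))⁻¹ := ⟨_, rfl⟩
      rw [← hζ] at f1
      have f4 : z * b = ζ⁻¹ * ((h : G) * (z * b) * (h : G)⁻¹) := by rw [hζ]; group
      have f5 : k' * ζ⁻¹ = ζ⁻¹ * k' := by
        rw [mul_inv_eq_iff_eq_mul, mul_assoc, ← f1, inv_mul_cancel_left]
      rw [f4, ← mul_assoc, f5, mul_assoc, f3, ← mul_assoc]
    have hKeo : K ∈ OmC Om (z * b) := by
      refine ⟨hK.1, fun k hk => ?_⟩
      rw [mem_centralizer_singleton_iff]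
      exact (hKe k hk).symm
    refine ⟨h, ⟨hha, ?_⟩, rfl⟩
    rcases five c (z * b) _ K _ hac.2.1 heR hee he1 hK hKeo hK' hKe' with h3 | h3
    · exact (n.not_cc hac' hac h3).elim
    · -- `c^h ~ c`
      have h4 : Eqv Om z c := Eqv.of_blk n.b hzc
      exact (h4.trans h3.symm).trans (Eqv.conj n.b h4.symm h)

/-- **(5.2)** -/
theorem false_of (five : Five Om) (hcrit : CloEnd.Crit1175 (↥L ⧸ center ↥L)) (hz : CC Om a z) (hx : CC Om a x)
    (hne : ¬ Eqv Om z x) : False := by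
  obtain ⟨H, hH⟩ := S.exists_se n five hcrit hz hx hne
  obtain ⟨t, ht⟩ := n.b.ti z hz.2.1
  have hat : CC Om a t := hz.blk' n.b ht.blk
  obtain ⟨D, hD⟩ : ∃ D : Subgroup G, D = (center ↥L).map L.subtype := ⟨_, rfl⟩
  have hDm : ∀ x, x ∈ D ↔ x ∈ L ∧ ∀ l ∈ L, x * l = l * x := by
    intro x
    rw [hD]
    constructor
    · rintro ⟨x, hx, rfl⟩
      exact ⟨x.2, fun l hl => (congrArg Subtype.val (mem_center_iff.1 hx ⟨l, hl⟩)).symm⟩
    · rintro ⟨hx, hx'⟩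
      exact ⟨⟨x, hx⟩, mem_center_iff.2 fun l => Subtype.ext (hx' l l.2).symm, rfl⟩
  refine SE.false_of_conj (N := L) (D := D) n.b.w ht ((S.RB n hz).trans S.nor) ((S.RB n hat).trans S.nor) (S.zmem hz)
    (S.zmem hat) ?_ ?_ ?_ ?_
  · intro c hc
    rw [hDm] at hc
    rw [mem_CX]
    exact fun K hK => S.cen_mem hat hK hc.1 hc.2
  · intro h1
    exact S.not_cent n hat fun l hl => (((hDm t).1 h1).2 l hl).symm
  · intro c hc g hg h1
    rw [hDm] at hc
    exact S.eq_of_pi n hat (conj_of_comm n.b hz (S.la (S.C.le hg))) hc.1 hc.2 h1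
  · intro x hx y hy hxx hxD hyy hyD
    have key : ∀ {x : G} (hx : x ∈ L), x * x = 1 → x ∉ D → orderOf (QuotientGroup.mk' (center ↥L) ⟨x, hx⟩) = 2 := by
      intro x hx hxx hxD
      refine orderOf_eq_prime ?_ fun h1 => hxD ((hDm x).2 ⟨hx, S.pi_one h1⟩)
      rw [pow_two, ← map_mul]
      have e : (⟨x, hx⟩ : ↥L) * ⟨x, hx⟩ = 1 := Subtype.ext hxx
      rw [e, map_one]
    obtain ⟨g, hg⟩ := isConj_iff.1 (Cfsg.Agent.TwoFusion.StronglyEmbeddedBasic.isConj_of_involutions hH _ _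
      (key hx hxx hxD) (key hy hyy hyD))
    obtain ⟨d, rfl⟩ := QuotientGroup.mk'_surjective _ g
    rw [← map_mul, ← map_inv, ← map_mul] at hg
    have h1 := S.pi_eq hg
    change ∀ l ∈ L, (d : G) * x * (d : G)⁻¹ * y⁻¹ * l = l * ((d : G) * x * (d : G)⁻¹ * y⁻¹) at h1
    have h2 : (d : G) * x * (d : G)⁻¹ * y⁻¹ ∈ L := mul_mem (mul_mem (mul_mem d.2 hx) (inv_mem d.2)) (inv_mem hy)
    refine ⟨d, d.2, y⁻¹ * ((d : G) * x * (d : G)⁻¹), ?_, by group⟩
    rw [hDm]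
    have h3 := h1 y hy
    have e : (d : G) * x * (d : G)⁻¹ * y⁻¹ = y⁻¹ * ((d : G) * x * (d : G)⁻¹) := by
      rw [eq_inv_mul_iff_mul_eq, ← h3]; group
    rw [← e]
    exact ⟨h2, h1⟩

end SL

end Cfsg.Agent.Cit.Nil.CompFour
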