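import Cfsg.Agent.Cit.Nil.CompFour.End
import Cfsg.Agent.Cit.Nil.CompFour.SecComp
import Cfsg.Agent.Cit.Nil.CompFour.SecL
import Cfsg.Agent.Cit.Nil.CompFour.FiveOne
import Cfsg.Agent.Cit.Nil.CompFour.Bridge
import Cfsg.Agent.Cit.Nil.CompFour.NoThree
import Cfsg.Agent.Cit.Nil.RI.FBlk
import Cfsg.Agent.Cit.Nil.RI.TSB
import Cfsg.Agent.Cit.Nil.RG.EndS
import Cfsg.Agent.Cit.Nil.RG.Leaf
import Cfsg.Agent.Cit.Nil.RTwo.Asm
import Cfsg.Agent.Cit.Comp

/-!
# S1309, node (n5): the assembly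

Text: `blueprints/R18-6b-n5-helper449.md`.

* `TB.of` : the block world;
* `tpr_of_scw` : `T'` for the centralisers of involutions: NIL or ONE;
* `eq_of` : (EQ);
* **`false_of_scw`** : `SCW G (cls K)`, core-free centralisers, `r = 4`: contradiction.
-/

set_option autoImplicit false
set_option linter.style.haveILetI false
set_option linter.unusedSectionVars false

namespace Cfsg.Agent.Cit.Nil.CompFour

open Subgroup Cfsg Cfsg.Agent.Cit Cfsg.Agent.Cit.Nil.RI Cfsg.Agent.Cit.Nil.IndDefs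

open RG (WR CP Ov)
open scoped commutatorElement

universe u

section

variable {G : Type*} [Group G] [Finite G] {Om : Set (Subgroup G)} {K L M N P X : Subgroup G}
  {a b c d e s t u v x y z g h : G}

/-- the block world -/
theorem TB.of (h : WM Om) (hT : ∀ z, InZ Om z → ∃ t, TI Om z t) : TB Om :=
  ⟨h, hT, FBlk.f1b' h hT, FBlk.two' h hT, RI.tsb' h hT⟩

/-- a non-abelian simple group is quasisimple -/
theorem quasi_of {L : Type*} [Group L] (hs : IsSimpleGroup L) (hna : ¬ IsMulCommutative L) : IsQuasisimple L := by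
  have hc : center L = ⊥ := by
    rcases (inferInstance : (center L).Normal).eq_bot_or_eq_top with h | h
    · exact h
    · exact absurd ⟨⟨fun a b => ((mem_center_iff.1 (show a ∈ center L by rw [h]; trivial)) b).symm⟩⟩ hna
  refine ⟨⟨?_⟩, ?_⟩
  · rcases hs.eq_bot_or_eq_top_of_normal (commutator L) inferInstance with h | h
    · exfalso
      apply hna
      refine ⟨⟨fun x y => ?_⟩⟩
      have h1 : ⁅x, y⁆ ∈ commutator L := commutator_mem_commutator (mem_top x) (mem_top y)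
      rw [h, mem_bot, commutatorElement_eq_one_iff_mul_comm] at h1
      exact h1
    · exact h
  · exact ((QuotientGroup.quotientMulEquivOfEq hc).trans QuotientGroup.quotientBot).isSimpleGroup_congr.2 hs

/-- 3-cliques exist everywhere or nowhere -/
theorem three_or (w : TB Om) (cls : ∀ c d, InZ Om c → InZ Om d → ∃ g : G, g * c * g⁻¹ = d) :
    (∀ z, InZ Om z → ∃ b c, CC Om z b ∧ CC Om z c ∧ CC Om b c) ∨
      ∀ x y v, CC Om x y → CC Om x v → CC Om y v → False := by
  by_cases h : ∃ x y v, CC Om x y ∧ CC Om x v ∧ CC Om y v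
  · left
    obtain ⟨x, y, v, h1, h2, h3⟩ := h
    intro z hz
    obtain ⟨g, rfl⟩ := cls x z h1.1 hz
    exact ⟨_, _, h1.conj w g, h2.conj w g, h3.conj w g⟩
  · right
    intro x y v h1 h2 h3
    exact h ⟨x, y, v, h1, h2, h3⟩

/-- `O(C(e)) = 1` -/
theorem odd_eq_bot (core : ∀ t : G, orderOf t = 2 → centralizerPPrimeCore 2 t = ⊥) (hee : e * e = 1) (he : e ≠ 1)
    (hN : N ≤ centralizer {e}) (hn : centralizer {e} ≤ normalizer (N : Set G)) (hodd : Odd (Nat.card N)) : N = ⊥ := by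
  have h1 := core e (orderOf_eq_prime (by rw [pow_two]; exact hee) he)
  have h2 : Cfsg.pPrimeCore 2 ↥(centralizer ({e} : Set G)) = ⊥ :=
    (Subgroup.map_eq_bot_iff_of_injective _ (Subgroup.subtype_injective _)).1 h1
  have h3 : (N.subgroupOf (centralizer {e})).Normal := (normal_subgroupOf_iff_le_normalizer hN).2 hn
  have h4 : Nat.card (N.subgroupOf (centralizer {e})) = Nat.card N :=
    Nat.card_congr (Subgroup.subgroupOfEquivOfLe hN).toEquiv
  have h5 : N.subgroupOf (centralizer {e}) ≤ Cfsg.pPrimeCore 2 ↥(centralizer ({e} : Set G)) := by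
    refine Lib.Cores.le_pPrimeCore h3 ?_
    rw [h4]
    exact Nat.coprime_two_right.2 hodd
  rw [h2, le_bot_iff] at h5
  rw [eq_bot_iff]
  intro n hn'
  have h6 : (⟨n, hN hn'⟩ : ↥(centralizer ({e} : Set G))) ∈ N.subgroupOf (centralizer {e}) := hn'
  rw [h5, mem_bot] at h6
  exact mem_bot.2 (congrArg Subtype.val h6)

theorem odd_core_cent (core : ∀ t : G, orderOf t = 2 → centralizerPPrimeCore 2 t = ⊥) (hee : e * e = 1) (he : e ≠ 1) :
    Cfsg.pPrimeCore 2 ↥(centralizer ({e} : Set G)) = ⊥ := by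
  have h1 := core e (orderOf_eq_prime (by rw [pow_two]; exact hee) he)
  exact (Subgroup.map_eq_bot_iff_of_injective _ (Subgroup.subtype_injective _)).1 h1

end

variable {G : Type u} [Group G] [Finite G] {Om : Set (Subgroup G)} {K L M N P X : Subgroup G}
  {a b c d e s t u v x y z g h : G}

/-- **`T'`**: NIL or ONE -/
theorem tpr_of_scw (w : SCW G Om) (core : ∀ t : G, orderOf t = 2 → centralizerPPrimeCore 2 t = ⊥) (hw : WM Om)
    (hT : ∀ z, InZ Om z → ∃ t, TI Om z t) : TPr Om := by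
  intro e hee he K hK
  have hyp := w.t0.hyp
  have f := ROne.fsimp_of w.simple w.na
  have hlt : Nat.card ↥(centralizer ({e} : Set G)) < Nat.card G := by
    refine lt_of_le_of_ne (Subgroup.card_le_card_group _) fun h1 => he ?_
    have h2 : centralizer {e} = ⊤ := Subgroup.eq_top_of_card_eq _ h1
    rw [← Subgroup.mem_bot, ← f.cen, mem_centralizer_iff]
    intro y _
    have h4 : y ∈ centralizer {e} := by rw [h2]; exact mem_top y
    exact mem_centralizer_singleton_iff.1 h4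
  have hcore : ∀ K ∈ Om, oddCore ↥(centralizer ({zz K} : Set G)) = ⊥ := fun K hK =>
    odd_core_cent core (InZ.z2 ⟨K, hK, rfl⟩ hw) (InZ.z1 ⟨K, hK, rfl⟩ hw)
  have hmK : (K.subgroupOf (centralizer {e})).map (centralizer {e}).subtype = K := map_subgroupOf_eq_of_le hK.2
  have hsub : ∀ L ∈ comp (OmC Om e) K, L ∈ OmC Om e := fun L hL => comp_sub hK hL
  rcases w.ih _ _ hlt (CompR.restr_t0 w.t0 (odd_core_cent core hee he)) _ (subgroupOf_mem_restr hK.1 hK.2) with
    h | h | ⟨K₁, h1, h3⟩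
  · left
    exact ⟨_, h, CompR.zz_subOf hyp hK⟩
  · right
    intro K₁ h₁ K₂ h₂ hcm L hL x hx
    have m1 := hsub _ h₁
    have m2 := hsub _ h₂
    have m3 := hsub _ hL
    have h5 := h _ (restr_of_comp_OmC h₁) _ (restr_of_comp_OmC h₂) ((CompR.cm_subOf_iff m1.2 m2.2).2 hcm) _
      (restr_of_comp_OmC hL) ⟨x, m3.2 hx⟩ hx
    have h6 := congrArg Subtype.val h5
    simp only [Subgroup.coe_mul] at h6
    rwa [CompR.zz_subOf hyp m1, CompR.zz_subOf hyp m2] at h6
  · exfalso
    have h4 : K₁ ∈ restr Om (centralizer {e}) := comp_sub (subgroupOf_mem_restr hK.1 hK.2) h1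
    exact w.three _ h4 (three_of_cent hw hT hcore hee h4 h3)

/-- **(EQ)** -/
theorem eq_of (i : RTwo.LIn.{u}) (hev : ∀ (H : Type u) [Group H] [Finite H], Comp.EvQ H) (b : TB Om) (tp : TPr Om)
    (cls : ∀ c d, InZ Om c → InZ Om d → ∃ g : G, g * c * g⁻¹ = d)
    (core : ∀ t : G, orderOf t = 2 → centralizerPPrimeCore 2 t = ⊥) : EQ Om := by
  rcases three_or b cls with h3 | h3
  · exact TPr.eq_of_three b tp h3
  · by_contra hn
    have n : NC Om := NC.of b tp h3 cls hn
    unfold EQ at hn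
    push Not at hn
    obtain ⟨z, a, x, h1, h2, -, h4⟩ := hn
    have ha := h1.2.1
    obtain ⟨B, L, S⟩ := n.exists_sl ha (odd_core_cent core (ha.z2 b.w) (ha.z1 b.w)) hev
    have five : Five Om := fun c e v K L hc he hee he1 hK hKe hL hLe => n.five hc he hee he1 hK hKe hL hLe
    haveI := S.C.q.2
    exact SL.false_of n S five (i.crit _) h1.symm h2.symm h4

/-- **node (n5), r = 4, type I pairs** -/
theorem false_of_ti (i : RTwo.LIn.{u}) (hev : ∀ (H : Type u) [Group H] [Finite H], Comp.EvQ H) (w : SCW G Om)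
    (core : ∀ t : G, orderOf t = 2 → centralizerPPrimeCore 2 t = ⊥) (hw : WM Om)
    (cls : ∀ c d, InZ Om c → InZ Om d → ∃ g : G, g * c * g⁻¹ = d) (hti : TI Om s t) : False := by
  have f := ROne.fsimp_of w.simple w.na
  haveI := f.sim
  have even : 2 ∣ Nat.card ↥(generalizedFittingSubgroup G) := hev G _ (quasi_of w.simple w.na)
  have hT : ∀ z, InZ Om z → ∃ t, TI Om z t := by
    intro z hz
    obtain ⟨g, rfl⟩ := cls s z hti.inZ hz
    exact ⟨_, hti.conj hw g⟩
  have b := TB.of hw hT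
  have tp := tpr_of_scw w core hw hT
  have pt : ∀ z, InZ Om z → ∃ a, CC Om z a := by
    obtain ⟨K₁, h1, K₂, h2, hc, hne⟩ := w.two
    intro z hz
    obtain ⟨g, rfl⟩ := cls (zz K₁) z ⟨K₁, h1, rfl⟩ hz
    exact ⟨_, (CC.of_cm b ⟨h1, rfl⟩ ⟨h2, rfl⟩ hne hc).conj b g⟩
  have we : WE Om := ⟨b, tp, eq_of i hev b tp cls core, pt⟩
  refine WE.false we (X := generalizedFittingSubgroup G) (fun e hee he N h1 h2 h3 => odd_eq_bot core hee he h1 h2 h3) f
    (fun z hz => RG.zz_mem_of_fsimp w.t0.hyp (fun K hK => hw.isPGroup hK) f even hz) (i.crit _) ?_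
  obtain ⟨K, hK⟩ := hti.inZ
  exact ⟨K, hK.1⟩

/-- **node (n5)**: `r = 4` -/
theorem false_of_scw (i : RTwo.LIn.{u}) (hev : ∀ (H : Type u) [Group H] [Finite H], Comp.EvQ H) (w : SCW G (cls K))
    (core : ∀ t : G, orderOf t = 2 → centralizerPPrimeCore 2 t = ⊥) (h4 : (AssemblyNil.ovr K).ncard = 4) : False := by
  have hyp := w.t0.hyp
  have f := ROne.fsimp_of w.simple w.na
  haveI := f.sim
  have even : 2 ∣ Nat.card ↥(generalizedFittingSubgroup G) := hev G _ (quasi_of w.simple w.na)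
  have h : WR (cls K) := WR.of_hyp hyp w.t0.card
  have hcard : ∀ z, z ∈ RG.ZZ (cls K) → (Ov (cls K) z).ncard = 4 := by
    rintro _ ⟨L, ⟨g, rfl⟩, rfl⟩
    have h2 : Ov (cls K) (zz (cj g K)) = (cj g) '' (AssemblyNil.ovr K) := by
      ext M
      constructor
      · rintro ⟨hM, hz⟩
        refine ⟨cj g⁻¹ M, ⟨hyp.conj M hM _, ?_⟩, cj_cj_inv g M⟩
        rw [hyp.zz_cj hM, hz, hyp.zz_cj (self_mem_cls K)]
        group
      · rintro ⟨M, ⟨hM, hz⟩, rfl⟩
        refine ⟨hyp.conj M hM g, ?_⟩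
        rw [hyp.zz_cj hM, hz, hyp.zz_cj (self_mem_cls K)]
    rw [h2, Set.ncard_image_of_injective _ (fun A B hAB => cj_inj.1 hAB), h4]
  have hw : WM (cls K) := ⟨hyp, w.t0.card, fun L hL => hcard _ ⟨L, hL, rfl⟩⟩
  have hcls : ∀ c d, InZ (cls K) c → InZ (cls K) d → ∃ g : G, g * c * g⁻¹ = d := by
    rintro c d ⟨M, hM, rfl⟩ ⟨N, hN, rfl⟩
    obtain ⟨g, rfl⟩ := RFour.oneCls_cls K M hM N hN
    exact ⟨g, (hyp.zz_cj hM g).symm⟩
  by_cases hT : RG.NoTI (cls K)
  · have r3 : RG.R3 (cls K) := fun z hz => by rw [hcard z hz]; omega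
    have hC : RG.AllC (cls K) := fun s hs x hx hne hc => h.cp_of_comm hT r3 hs hx hne hc
    have gold : Cit.ROne.Gold ↥(generalizedFittingSubgroup G) := fun S A h1 h2 h3 => i.gold _ S A h1 h2 h3
    have hB : CloEnd.Bend ↥(generalizedFittingSubgroup G) := i.bend _
    exact h.false_of_allC hC r3.r2 hyp (z := zz K) ⟨K, self_mem_cls K, rfl⟩ f even gold hB
  · unfold RG.NoTI at hT
    push Not at hT
    obtain ⟨s, hs, t, ht, hti⟩ := hT
    exact false_of_ti i hev w core hw hcls (RI.TI.of_rg hw hs ht hti)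

end Cfsg.Agent.Cit.Nil.CompFour
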