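import Cfsg.Agent.Cit.Nil.RG.Cnt
import Cfsg.Agent.Cit.Nil.RI.Closed

/-!
# S1309, `r = 4` with type I pairs: (C1) of section 4 of `blueprints/R18-6b-n5-helper449.md` (helper320)

`CntD Om M Sig` : the world for the count:
* `sig` (3.3): `Z ∩ M ⊆ Sig`;
* `p1` (3.4): `x ∈ Sig`, `g x g⁻¹ ∈ Sig` implies `g ∈ M`;
* `lemC` (LEMMA C): `u, v ∈ Sig` a C-pair: `C(u v) ≤ M`.

**`CntD.mem`** (C1): `S ≤ M` a Sylow 2-subgroup of `G`, `t t = 1`, `C(t) ≤ M`: `g t g⁻¹ ∈ M` implies `g ∈ M`.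
-/

set_option autoImplicit false
set_option linter.style.haveILetI false
set_option linter.unusedSectionVars false

namespace Cfsg.Agent.Cit.Nil.CompFour

open Subgroup Cfsg Cfsg.Agent.Cit

open RG (WR CP Ov Cn)
open ROne.Strong (exists_cj_le)
open RI (CS CS_zz CS_conj CS_cp)

variable {G : Type*} [Group G]

/-- the action by conjugation on an invariant set -/
def actD (M : Subgroup G) (X : Set G) (hX : ∀ g ∈ M, ∀ x ∈ X, g * x * g⁻¹ ∈ X) : M →* Equiv.Perm X where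
  toFun g :=
    { toFun := fun x => ⟨g * x * (g : G)⁻¹, hX g g.2 x x.2⟩
      invFun := fun x => ⟨(g : G)⁻¹ * x * g, by
        have h1 := hX (g : G)⁻¹ (inv_mem g.2) x x.2
        rwa [inv_inv] at h1⟩
      left_inv := fun x => Subtype.ext (by change (g : G)⁻¹ * (g * x * (g : G)⁻¹) * g = x; group)
      right_inv := fun x => Subtype.ext (by change (g : G) * ((g : G)⁻¹ * x * g) * (g : G)⁻¹ = x; group) }
  map_one' := Equiv.ext fun x => Subtype.ext (by change (1 : G) * x * (1 : G)⁻¹ = x; group)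
  map_mul' g h := Equiv.ext fun x => Subtype.ext (by
    change ((g : G) * h) * x * ((g : G) * h)⁻¹ = g * (h * x * (h : G)⁻¹) * (g : G)⁻¹
    group)

/-- see the head of the file -/
structure CntD (Om : Set (Subgroup G)) (M : Subgroup G) (Sig : Set G) : Prop where
  h : WR Om
  sig : ∀ x ∈ RG.ZZ Om, x ∈ M → x ∈ Sig
  p1 : ∀ x ∈ Sig, ∀ g : G, g * x * g⁻¹ ∈ Sig → g ∈ M
  lemC : ∀ u ∈ Sig, ∀ v ∈ Sig, CP Om u v → ∀ g : G, g * (u * v) = u * v * g → g ∈ M

/-- some member lies in a given Sylow 2-subgroup -/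
theorem CS_nonempty [Finite G] {Om : Set (Subgroup G)} (h : WR Om) (hne : Om.Nonempty)
    (S : Sylow 2 G) : (CS Om (S : Subgroup G)).Nonempty := by
  obtain ⟨K, hK⟩ := hne
  obtain ⟨g, hg⟩ := exists_le_cj S (h.two hK)
  refine ⟨zz (cj g⁻¹ K), cj g⁻¹ K, ⟨h.conj K hK _, rfl⟩, ?_⟩
  intro x hx
  rw [mem_cj, inv_inv] at hx
  have h1 := hg hx
  rw [mem_cj] at h1
  have h2 : g⁻¹ * (g * x * g⁻¹) * g = x := by group
  rwa [h2] at h1

namespace CntD

variable [Finite G] {Om : Set (Subgroup G)} {M : Subgroup G} {Sig : Set G} (c : CntD Om M Sig)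

include c

/-- **(C1)** for `b ∈ S` -/
theorem mem_S (S : Sylow 2 G) (hSM : (S : Subgroup G) ≤ M) (hne : Om.Nonempty) {t g : G} (htt : t * t = 1)
    (ht : ∀ x, x * t = t * x → x ∈ M) (hg : g * t * g⁻¹ ∈ (S : Subgroup G)) : g ∈ M := by
  classical
  haveI : Fact (Nat.Prime 2) := ⟨Nat.prime_two⟩
  have h := c.h
  by_contra hgM
  obtain ⟨b, hb⟩ : ∃ b, b = g * t * g⁻¹ := ⟨_, rfl⟩
  rw [← hb] at hg
  have hbb : b * b = 1 := by
    have h1 : b * b = g * (t * t) * g⁻¹ := by rw [hb]; group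
    rw [h1, htt, mul_one, mul_inv_cancel]
  have hb1 : b⁻¹ = b := inv_eq_of_mul_eq_one_right hbb
  -- `C(b) ≤ g M g⁻¹`
  have hCb : ∀ x, x * b = b * x → g⁻¹ * x * g ∈ M := by
    intro x hx
    refine ht _ ?_
    have h1 : t = g⁻¹ * b * g := by rw [hb]; group
    rw [h1]
    calc g⁻¹ * x * g * (g⁻¹ * b * g) = g⁻¹ * (x * b) * g := by group
      _ = g⁻¹ * (b * x) * g := by rw [hx]
      _ = _ := by group
  -- `CS(S)`
  obtain ⟨D, hD⟩ : ∃ D, D = CS Om (S : Subgroup G) := ⟨_, rfl⟩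
  have hDne : D.Nonempty := by rw [hD]; exact CS_nonempty h hne S
  have hDz : ∀ z ∈ D, z ∈ RG.ZZ Om := fun z hz => by rw [hD] at hz; exact CS_zz hz
  have hDS : ∀ z ∈ D, z ∈ (S : Subgroup G) := fun z hz => by
    rw [hD] at hz
    obtain ⟨K, hK, hKS⟩ := hz
    exact hKS (h.Ov_mem hK)
  have hDsig : ∀ z ∈ D, z ∈ Sig := fun z hz => c.sig z (hDz z hz) (hSM (hDS z hz))
  have hDc : ∀ s ∈ (S : Subgroup G), ∀ z ∈ D, s * z * s⁻¹ ∈ D := fun s hs z hz => by
    rw [hD] at hz ⊢; exact CS_conj h hz hs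
  have hDcp : ∀ z ∈ D, ∀ u ∈ D, z ≠ u → CP Om z u := fun z hz u hu hzu => by
    rw [hD] at hz hu; exact CS_cp h S.isPGroup' hz hu hzu
  -- `b` moves all `z`
  have hmove : ∀ z ∈ D, b * z * b⁻¹ ≠ z := by
    intro z hz h1
    have h2 : z * b = b * z := by
      conv_lhs => rw [← h1]
      group
    have h3 := hCb z h2
    have h4 : g⁻¹ * z * g ∈ RG.ZZ Om := by
      have h5 := h.zz_cj (hDz z hz) g⁻¹
      rwa [inv_inv] at h5
    refine hgM (c.p1 _ (c.sig _ h4 h3) g ?_)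
    have h5 : g * (g⁻¹ * z * g) * g⁻¹ = z := by group
    rw [h5]
    exact hDsig z hz
  -- the Sylow subgroup of `g M g⁻¹`
  obtain ⟨T, hT⟩ : ∃ T : Subgroup G, T = (S : Subgroup G) ⊓ centralizer {b} := ⟨_, rfl⟩
  have hT2 : IsPGroup 2 T := by rw [hT]; exact S.isPGroup'.to_le inf_le_left
  have hTm : ∀ x, x ∈ T ↔ x ∈ (S : Subgroup G) ∧ x * b = b * x := by
    intro x
    rw [hT, Subgroup.mem_inf, mem_centralizer_singleton_iff]
  have hRM : cj g⁻¹ T ≤ M := by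
    intro x hx
    rw [mem_cj, inv_inv] at hx
    have h1 := hCb _ ((hTm _).1 hx).2
    have h2 : g⁻¹ * (g * x * g⁻¹) * g = x := by group
    rwa [h2] at h1
  obtain ⟨m, hm, hmS⟩ := exists_cj_le S hSM (R := cj g⁻¹ T) (hT2.map _) hRM
  obtain ⟨w, hw⟩ : ∃ w, w = m * g⁻¹ := ⟨_, rfl⟩
  have hwM : w ∉ M := by
    intro h1
    have h2 : g = w⁻¹ * m := by rw [hw]; group
    exact hgM (h2 ▸ mul_mem (inv_mem h1) hm)
  have hwT : ∀ s ∈ T, w * s * w⁻¹ ∈ (S : Subgroup G) := by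
    intro s hs
    have h1 : g⁻¹ * s * g⁻¹⁻¹ ∈ cj g⁻¹ T := conj_mem_cj hs
    have h2 := hmS (conj_mem_cj (g := m) h1)
    have h3 : w * s * w⁻¹ = m * (g⁻¹ * s * g⁻¹⁻¹) * m⁻¹ := by rw [hw]; group
    rw [h3]
    exact h2
  -- a member over each `z ∈ D`
  have hex : ∀ z : D, ∃ K : Subgroup G, K ∈ Ov Om (z : G) ∧ K ≤ S := by
    rintro ⟨z, hz⟩
    rw [hD] at hz
    exact hz
  choose K hK using hex
  -- the action
  let ρ₀ := actD (S : Subgroup G) D hDc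
  let f : T →* (S : Subgroup G) :=
    { toFun := fun s => ⟨w * s * w⁻¹, hwT s s.2⟩
      map_one' := Subtype.ext (by change w * (1 : G) * w⁻¹ = 1; group)
      map_mul' := fun p q => Subtype.ext (by
        change w * ((p : G) * q) * w⁻¹ = w * p * w⁻¹ * (w * q * w⁻¹)
        group) }
  haveI : Nonempty D := hDne.to_subtype
  let σ : D → D := fun z => ⟨b * z * b⁻¹, hDc b hg z z.2⟩
  have hσ : ∀ z : D, (σ z : G) = b * z * b⁻¹ := fun _ => rfl
  have hbK : ∀ z : D, cj b (K z) ∈ Ov Om (σ z : G) := fun z => h.Ov_cj (hK z).1 b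
  refine Cn.false (Om := Om) (T := T) (b := b) (σ := σ) (K := K) (ρ := ρ₀.comp f)
    { h := h
      mem := fun i => (hK i).1.1
      inv := fun i => Subtype.ext (by
        rw [hσ, hσ]
        have h1 : b * (b * (i : G) * b⁻¹) * b⁻¹ = (b * b) * i * (b * b)⁻¹ := by group
        rw [h1, hbb, one_mul, inv_one, mul_one])
      ne := fun i h1 => hmove i i.2 (congrArg Subtype.val h1)
      c0 := ?_, c1 := ?_, c2 := ?_
      mv := fun i => by
        rw [(hK i).1.2]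
        exact hmove i i.2
      le := ?_, card := rfl, fx := ?_ }
  · intro i x hx y hy
    exact (hDcp _ i.2 _ (σ i).2 (hmove i i.2).symm).2 _ (hK i).1 _ (hbK i) x hx _ (conj_mem_cj hy)
  · intro i j hij _ x hx y hy
    exact (hDcp _ i.2 _ j.2 (fun h1 => hij (Subtype.ext h1))).2 _ (hK i).1 _ (hK j).1 x hx y hy
  · intro i j _ hij x hx y hy
    refine (hDcp _ i.2 _ (σ j).2 ?_).2 _ (hK i).1 _ (hbK j) x hx _ (conj_mem_cj hy)
    intro h1
    apply hij
    refine Subtype.ext ?_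
    rw [hσ, h1, hσ]
    have h2 : b * (b * (j : G) * b⁻¹) * b⁻¹ = (b * b) * j * (b * b)⁻¹ := by group
    rw [h2, hbb, one_mul, inv_one, mul_one]
  · intro i k hk
    rw [hTm]
    have hkS : k ∈ (S : Subgroup G) := (hK i).2 hk
    refine ⟨mul_mem hkS (mul_mem (mul_mem hg hkS) (inv_mem hg)), ?_⟩
    have h1 := (hDcp _ i.2 _ (σ i).2 (hmove i i.2).symm).2 _ (hK i).1 _ (hbK i) k hk _ (conj_mem_cj hk)
    calc k * (b * k * b⁻¹) * b = (b * k * b⁻¹) * k * b := by rw [h1]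
      _ = b * (k * (b * k * b⁻¹)) := by rw [hb1]; simp only [mul_assoc]
  · intro x i hx hρ
    rw [(hK i).1.2] at hx
    obtain ⟨z, hz⟩ := hDne
    -- `w x w⁻¹` commutes with `z`
    have h1 : w * x * w⁻¹ * z * (w * x * w⁻¹)⁻¹ = z := by
      have h2 := congrArg (fun τ : Equiv.Perm D => ((τ ⟨z, hz⟩ : D) : G)) hρ
      exact h2
    have h2 : w⁻¹ * z * w ∈ M := by
      refine c.lemC _ (hDsig _ i.2) _ (hDsig _ (σ i).2) (hDcp _ i.2 _ (σ i).2 (hmove i i.2).symm) _ ?_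
      have h3 : w * x * w⁻¹ * z = z * (w * x * w⁻¹) := by
        rwa [mul_inv_eq_iff_eq_mul] at h1
      rw [hσ, ← hx]
      calc w⁻¹ * z * w * x = w⁻¹ * (z * (w * x * w⁻¹)) * w := by group
        _ = w⁻¹ * (w * x * w⁻¹ * z) * w := by rw [h3]
        _ = _ := by group
    have h3 : w⁻¹ * z * w ∈ RG.ZZ Om := by
      have h5 := h.zz_cj (hDz z hz) w⁻¹
      rwa [inv_inv] at h5
    refine hwM (c.p1 _ (c.sig _ h3 h2) w ?_)
    have h5 : w * (w⁻¹ * z * w) * w⁻¹ = z := by group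
    rw [h5]
    exact hDsig z hz

/-- **(C1)** -/
theorem mem (S : Sylow 2 G) (hSM : (S : Subgroup G) ≤ M) (hne : Om.Nonempty) {t g : G} (htt : t * t = 1)
    (ht : ∀ x, x * t = t * x → x ∈ M) (hg : g * t * g⁻¹ ∈ M) : g ∈ M := by
  haveI : Fact (Nat.Prime 2) := ⟨Nat.prime_two⟩
  have h2 : IsPGroup 2 (zpowers (g * t * g⁻¹)) := by
    by_cases h1 : g * t * g⁻¹ = 1
    · rw [h1, zpowers_one_eq_bot]; exact IsPGroup.of_bot
    refine IsPGroup.of_card (n := 1) ?_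
    rw [Nat.card_zpowers, pow_one]
    refine orderOf_eq_prime ?_ h1
    have h3 : (g * t * g⁻¹) ^ 2 = g * (t * t) * g⁻¹ := by rw [pow_two]; group
    rw [h3, htt, mul_one, mul_inv_cancel]
  obtain ⟨m, hm, hmS⟩ := exists_cj_le S hSM (R := zpowers (g * t * g⁻¹)) h2 (zpowers_le.2 hg)
  have h3 := hmS (conj_mem_cj (g := m) (mem_zpowers (g * t * g⁻¹)))
  have h4 : m * (g * t * g⁻¹) * m⁻¹ = (m * g) * t * (m * g)⁻¹ := by group
  rw [h4] at h3
  have h5 := c.mem_S S hSM hne htt ht h3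
  have h6 : g = m⁻¹ * (m * g) := by group
  rw [h6]
  exact mul_mem (inv_mem hm) h5

end CntD

end Cfsg.Agent.Cit.Nil.CompFour
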