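import Cfsg.Agent.Cit.Nil.CompFour.Base
import Cfsg.Agent.Cit.Nil.CompFour.Count

/-!
# S1309, node (n5): (4.1) and the members in (C2) (helper320)

Text: section 4 of `blueprints/R18-6b-n5-helper449.md`. `T_S = closure (CS Om S)`, `S` a 2-group.

* `CS_cc` : two elements of `CS(S)` are a C-pair;
* `TS_comm`, `TS_sq`, `TS_le`, `TS_norm` : `T_S` is elementary abelian and normalised by `S`;
* `exists_t` : there is `1 ≠ t ∈ T_S ∩ Z(S)`;
* `Ce Om s t` : `t` centralises `R_v` for all `v == s`; **`ce_or`** (4.1): `Ce Om s t ∨ Ce Om s (t * s)`;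
* **`exists_member`** (C2): `t ∈ T_S ∩ Z(S)`, `t' ∈ T_S' ∩ Z(S')`, `t t' = t' t`, `s ∈ CS(S)`, `c ∈ CS(S')`, `c == s`:
  some member over some `a == s` is centralised by `t t'`; `exists_pair` : over a C-pair `a₁, a₂`.
-/

set_option autoImplicit false
set_option linter.style.haveILetI false
set_option linter.unusedSectionVars false

namespace Cfsg.Agent.Cit.Nil.CompFour

open Subgroup Cfsg Cfsg.Agent.Cit Cfsg.Agent.Cit.Nil.RI Cfsg.Agent.Cit.Nil.IndDefs

open RG (WR CP Ov)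

variable {G : Type*} [Group G] {Om : Set (Subgroup G)} {K L S S' : Subgroup G} {a c s t t' u v x y z g : G}

/-- `t` centralises `R_v` for all `v == s` -/
def Ce (Om : Set (Subgroup G)) (s t : G) : Prop := ∀ v, Eqv Om s v → ∀ r ∈ RZ Om v, t * r = r * t

namespace Ce

theorem one : Ce Om s 1 := fun _ _ r _ => by rw [one_mul, mul_one]

theorem mul (h : Ce Om s t) (h' : Ce Om s u) : Ce Om s (t * u) := fun v hv r hr => by
  rw [mul_assoc, h' v hv r hr, ← mul_assoc, h v hv r hr, mul_assoc]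

theorem eqv (h : Ce Om s t) (hx : Eqv Om s x) : Ce Om x t := fun v hv => h v (hx.trans hv)

end Ce

variable [Finite G]

theorem RZ_conj (w : WM Om) (hr : x ∈ RZ Om v) (g : G) : g * x * g⁻¹ ∈ RZ Om (g * v * g⁻¹) := by
  rw [← RR_eq] at hr ⊢
  exact w.wr.RR_cj hr g

variable (w : TB Om)

include w

theorem CS_cc (hS : IsPGroup 2 S) (hz : z ∈ CS Om S) (hu : u ∈ CS Om S) (hne : z ≠ u) : CC Om z u :=
  ⟨CS_zz hz, CS_zz hu, CS_cp w.w.wr hS hz hu hne⟩

theorem CS_mem (hz : z ∈ CS Om S) : z ∈ S := by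
  obtain ⟨K, hK, hKS⟩ := hz
  exact hKS (w.w.wr.Ov_mem hK)

/-! ### `T_S` -/

theorem TS_comm (hS : IsPGroup 2 S) (hx : x ∈ closure (CS Om S)) (hy : y ∈ closure (CS Om S)) : x * y = y * x := by
  have h1 : ∀ z ∈ CS Om S, ∀ y ∈ closure (CS Om S), z * y = y * z := by
    intro z hz y hy
    have h2 : closure (CS Om S) ≤ centralizer {z} := (closure_le _).2 fun u hu => by
      rw [SetLike.mem_coe, mem_centralizer_singleton_iff]
      exact CS_comm w.w.wr hS hu hz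
    exact (mem_centralizer_singleton_iff.1 (h2 hy)).symm
  have h2 : closure (CS Om S) ≤ centralizer {y} := (closure_le _).2 fun u hu => by
    rw [SetLike.mem_coe, mem_centralizer_singleton_iff]
    exact h1 u hu y hy
  exact mem_centralizer_singleton_iff.1 (h2 hx)

theorem TS_sq (hS : IsPGroup 2 S) (hx : x ∈ closure (CS Om S)) : x * x = 1 := by
  induction hx using closure_induction with
  | mem y hy => exact w.w.wr.zz_sq (CS_zz hy)
  | one => rw [one_mul]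
  | mul y z hy hz h1 h2 =>
    have h3 := TS_comm w hS hy hz
    calc y * z * (y * z) = y * (z * y) * z := by group
      _ = y * (y * z) * z := by rw [h3]
      _ = (y * y) * (z * z) := by group
      _ = 1 := by rw [h1, h2, one_mul]
  | inv y hy h1 => rw [← _root_.mul_inv_rev, h1, inv_one]

theorem TS_le : closure (CS Om S) ≤ S := (closure_le S).2 fun _ hz => CS_mem w hz

theorem TS_norm (hs : s ∈ S) (hx : x ∈ closure (CS Om S)) : s * x * s⁻¹ ∈ closure (CS Om S) := by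
  have h1 : closure (CS Om S) ≤ cj s⁻¹ (closure (CS Om S)) := (closure_le _).2 fun u hu => by
    rw [SetLike.mem_coe, mem_cj, inv_inv]
    exact subset_closure (CS_conj w.w.wr hu hs)
  have h2 := h1 hx
  rwa [mem_cj, inv_inv] at h2

/-- `T_S ∩ Z(S) ≠ 1` -/
theorem exists_t (hS : IsPGroup 2 S) (hne : (CS Om S).Nonempty) :
    ∃ t ∈ closure (CS Om S), t ≠ 1 ∧ t * t = 1 ∧ ∀ x ∈ S, x * t = t * x := by
  haveI : Fact (Nat.Prime 2) := ⟨Nat.prime_two⟩
  let A : Subgroup G := closure (CS Om S)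
  have hn : ∀ g ∈ S, ∀ x ∈ A, g * x * g⁻¹ ∈ A := fun g hg x hx => TS_norm w hg hx
  let act : MulAction S A :=
    { smul := fun g x => ⟨g * x * (g : G)⁻¹, hn g g.2 x x.2⟩
      one_smul := fun x => Subtype.ext (by change (1 : G) * x * (1 : G)⁻¹ = x; group)
      mul_smul := fun g g' x => Subtype.ext (by
        change (g * g' : G) * x * (g * g' : G)⁻¹ = g * (g' * x * (g' : G)⁻¹) * (g : G)⁻¹; group) }
  letI := act
  have hK2 : IsPGroup 2 A := hS.to_le (TS_le w)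
  have hA : A ≠ ⊥ := by
    obtain ⟨z, hz⟩ := hne
    intro h1
    have h2 : z ∈ A := subset_closure hz
    rw [h1, mem_bot] at h2
    exact w.w.wr.zz_ne (CS_zz hz) h2
  haveI : Nontrivial A := A.nontrivial_iff_ne_bot.2 hA
  obtain ⟨n, hn1, hn2⟩ := hK2.nontrivial_iff_card.1 inferInstance
  have h3 : (1 : A) ∈ MulAction.fixedPoints S A := fun g => Subtype.ext (by
    change (g : G) * (1 : G) * (g : G)⁻¹ = 1; group)
  obtain ⟨x, hx, hx1⟩ := hS.exists_fixed_point_of_prime_dvd_card_of_fixed_point A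
    (by rw [hn2]; exact dvd_pow_self 2 (by omega)) h3
  refine ⟨x, x.2, fun e => hx1 (Subtype.ext e.symm), TS_sq w hS x.2, fun g hg => ?_⟩
  have h4 : (g : G) * x * g⁻¹ = x := congrArg Subtype.val (hx ⟨g, hg⟩)
  rwa [mul_inv_eq_iff_eq_mul] at h4

/-! ### (4.1) -/

theorem CC.ce (h : CC Om u s) : Ce Om s u := fun _ hv _ hr => (hv.cc_right h).z_rz w hr

/-- **(4.1)** -/
theorem ce_or (hS : IsPGroup 2 S) (hs : s ∈ CS Om S) (ht : t ∈ closure (CS Om S)) : Ce Om s t ∨ Ce Om s (t * s) := by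
  have hsm : s ∈ closure (CS Om S) := subset_closure hs
  have hss := TS_sq w hS hsm
  have hinv : ∀ {x : G}, Ce Om s x → Ce Om s x⁻¹ := fun h v hv r hr => by
    rw [inv_mul_eq_iff_eq_mul, ← mul_assoc, h v hv r hr, mul_inv_cancel_right]
  induction ht using closure_induction with
  | mem u hu =>
    by_cases hus : u = s
    · right
      rw [hus, hss]
      exact Ce.one
    · left
      exact (CS_cc w hS hu hs hus).ce w
  | one => exact Or.inl Ce.one
  | mul x y hx hy h1 h2 =>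
    have hys := TS_comm w hS hy hsm
    rcases h1 with h1 | h1
    · rcases h2 with h2 | h2
      · exact Or.inl (h1.mul h2)
      · right
        rw [mul_assoc]
        exact h1.mul h2
    · rcases h2 with h2 | h2
      · right
        have h3 : x * y * s = x * s * y := by rw [mul_assoc, hys, mul_assoc]
        rw [h3]
        exact h1.mul h2
      · left
        have h3 : x * y = x * s * (y * s) := by
          rw [hys]
          calc x * y = x * (s * s) * y := by rw [hss, mul_one]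
            _ = x * s * (s * y) := by group
        rw [h3]
        exact h1.mul h2
  | inv x hx h1 =>
    have h2 : x⁻¹ = x := inv_eq_of_mul_eq_one_right (TS_sq w hS hx)
    rwa [h2]

/-- the action of `t` if `t s` centralises -/
theorem Ce.act (hss : s * s = 1) (h : Ce Om s (t * s)) (hv : Eqv Om s v) (hx : x ∈ RZ Om v) :
    t * x * t⁻¹ = s * x * s⁻¹ := by
  have hsi : s⁻¹ = s := inv_eq_of_mul_eq_one_right hss
  have h1 : Eqv Om s (s * v * s⁻¹) := by
    have h2 := hv.conj w s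
    have h3 : s * s * s⁻¹ = s := by group
    rwa [h3] at h2
  have h2 := h _ h1 _ (RZ_conj w.w hx s)
  have h3 : t = t * s * s⁻¹ := by group
  calc t * x * t⁻¹ = (t * s * s⁻¹) * x * (t * s * s⁻¹)⁻¹ := by rw [← h3]
    _ = (t * s) * (s⁻¹ * x * s) * (t * s)⁻¹ := by group
    _ = (t * s) * (s * x * s⁻¹) * (t * s)⁻¹ := by rw [hsi]
    _ = s * x * s⁻¹ := by rw [h2, mul_inv_cancel_right]

/-- **(C2)**, the members -/
theorem exists_member (hS : IsPGroup 2 S) (hS' : IsPGroup 2 S') (hs : s ∈ CS Om S) (hc : c ∈ CS Om S')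
    (hsc : Eqv Om s c) (ht : t ∈ closure (CS Om S)) (htS : ∀ x ∈ S, x * t = t * x) (ht' : t' ∈ closure (CS Om S'))
    (htS' : ∀ x ∈ S', x * t' = t' * x) (htt : t * t' = t' * t) :
    ∃ a K, Eqv Om s a ∧ Mem Om a K ∧ ∀ k ∈ K, t * t' * k = k * (t * t') := by
  have hsZ : InZ Om s := CS_zz hs
  have hcZ : InZ Om c := CS_zz hc
  have hss := hsZ.z2 w.w
  have hcc := hcZ.z2 w.w
  rcases ce_or w hS hs ht with h1 | h1
  · -- `t` centralises the members over `c`
    obtain ⟨K, hK, hKS⟩ := hc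
    refine ⟨c, K, hsc, hK, fun k hk => ?_⟩
    have h2 := h1 c hsc k (Mem.le_RZ hK hk)
    have h3 := htS' k (hKS hk)
    rw [mul_assoc, ← h3, ← mul_assoc, h2, mul_assoc]
  rcases ce_or w hS' hc ht' with h2 | h2
  · obtain ⟨K, hK, hKS⟩ := hs
    refine ⟨s, K, Eqv.refl _, hK, fun k hk => ?_⟩
    have h3 := h2 s hsc.symm k (Mem.le_RZ hK hk)
    have h4 := htS k (hKS hk)
    rw [mul_assoc, h3, ← mul_assoc, ← h4, mul_assoc]
  -- the actions
  have a1 : ∀ v, Eqv Om s v → ∀ x ∈ RZ Om v, t * x * t⁻¹ = s * x * s⁻¹ := fun v hv x hx => Ce.act w hss h1 hv hx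
  have a2 : ∀ v, Eqv Om s v → ∀ x ∈ RZ Om v, t' * x * t'⁻¹ = c * x * c⁻¹ := fun v hv x hx =>
    Ce.act w hcc h2 (hsc.symm.trans hv) hx
  have e1 : ∀ v, Eqv Om s v → Eqv Om s (s * v * s⁻¹) := fun v hv => by
    have h3 := hv.conj w s
    have h4 : s * s * s⁻¹ = s := by group
    rwa [h4] at h3
  have e2 : ∀ v, Eqv Om s v → Eqv Om s (c * v * c⁻¹) := fun v hv => by
    have h3 := (hsc.symm.trans hv).conj w c
    have h4 : c * c * c⁻¹ = c := by group
    rw [h4] at h3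
    exact hsc.trans h3
  have a3 : ∀ v, Eqv Om s v → ∀ x ∈ RZ Om v, (t * t') * x * (t * t')⁻¹ = (s * c) * x * (s * c)⁻¹ := by
    intro v hv x hx
    calc (t * t') * x * (t * t')⁻¹ = t * (t' * x * t'⁻¹) * t⁻¹ := by group
      _ = t * (c * x * c⁻¹) * t⁻¹ := by rw [a2 v hv x hx]
      _ = s * (c * x * c⁻¹) * s⁻¹ := a1 _ (e2 v hv) _ (RZ_conj w.w hx c)
      _ = _ := by group
  have a4 : ∀ v, Eqv Om s v → ∀ x ∈ RZ Om v, (t * t') * x * (t * t')⁻¹ = (c * s) * x * (c * s)⁻¹ := by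
    intro v hv x hx
    rw [htt]
    calc (t' * t) * x * (t' * t)⁻¹ = t' * (t * x * t⁻¹) * t'⁻¹ := by group
      _ = t' * (s * x * s⁻¹) * t'⁻¹ := by rw [a1 v hv x hx]
      _ = c * (s * x * s⁻¹) * c⁻¹ := a2 _ (e1 v hv) _ (RZ_conj w.w hx s)
      _ = _ := by group
  -- the end
  have fin : ∀ a K, Eqv Om s a → Mem Om a K → (∀ k ∈ K, s * c * k = k * (s * c)) →
      ∃ a K, Eqv Om s a ∧ Mem Om a K ∧ ∀ k ∈ K, t * t' * k = k * (t * t') := by
    intro a K ha hK hk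
    refine ⟨a, K, ha, hK, fun k hkK => ?_⟩
    have h3 := a3 a ha k (hK.le_RZ hkK)
    rw [hk k hkK, mul_inv_cancel_right, mul_inv_eq_iff_eq_mul] at h3
    exact h3
  -- `c' = s c s⁻¹` centralises `R_c`
  have hsi : s⁻¹ = s := inv_eq_of_mul_eq_one_right hss
  have h3 : ∀ r ∈ RZ Om c, s * c * s⁻¹ * r = r * (s * c * s⁻¹) := by
    intro r hr
    have h4 : s⁻¹ * r * s⁻¹⁻¹ ∈ RZ Om (s⁻¹ * c * s⁻¹⁻¹) := RZ_conj w.w hr s⁻¹
    have h5 : Eqv Om s (s⁻¹ * c * s⁻¹⁻¹) := by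
      rw [hsi]
      exact e1 c hsc
    have h6 := (a3 _ h5 _ h4).symm.trans (a4 _ h5 _ h4)
    have h7 : c * r = r * c := CX_comm hr (z_mem_CX w.w)
    have h8 : s * c * (s⁻¹ * r * s⁻¹⁻¹) * (s * c)⁻¹ = (s * c * s⁻¹) * r * (s * c * s⁻¹)⁻¹ := by group
    have h9 : c * s * (s⁻¹ * r * s⁻¹⁻¹) * (c * s)⁻¹ = c * r * c⁻¹ := by group
    rw [h8, h9, h7, mul_inv_cancel_right, mul_inv_eq_iff_eq_mul] at h6
    exact h6
  have h4 : s * c * s⁻¹ = c := by
    by_contra h5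
    obtain ⟨K, hK⟩ := id hcZ
    have h6 : CC Om c (s * c * s⁻¹) := CC.of_cent w hK (hcZ.conj w.w s) (fun h7 => h5 h7.symm) fun k hk =>
      h3 k (hK.le_RZ hk)
    exact w.not_swap hsZ hcZ h6
  rw [mul_inv_eq_iff_eq_mul] at h4
  by_cases hne : s = c
  · obtain ⟨K, hK⟩ := id hsZ
    refine fin s K (Eqv.refl _) hK fun k hk => ?_
    rw [← hne, hss, one_mul, mul_one]
  · rcases w.cases hsZ hcZ h4 with h5 | h5
    · exact (hsc.not_cc h5).elim
    · obtain ⟨a, ha, -, K, hK, hk⟩ := w.tsb s c hsZ hcZ h4 hne h5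
      exact fin a K (Eqv.of_blk w ha) hK hk

/-- **(C2)**, two members over a C-pair in `C(t t')` -/
theorem exists_pair {s₁ s₂ c₁ c₂ : G} (hS : IsPGroup 2 S) (hS' : IsPGroup 2 S') (hs₁ : s₁ ∈ CS Om S)
    (hs₂ : s₂ ∈ CS Om S) (hne : s₁ ≠ s₂) (hc₁ : c₁ ∈ CS Om S') (hc₂ : c₂ ∈ CS Om S') (h₁ : Eqv Om s₁ c₁)
    (h₂ : Eqv Om s₂ c₂) (ht : t ∈ closure (CS Om S)) (htS : ∀ x ∈ S, x * t = t * x)
    (ht' : t' ∈ closure (CS Om S')) (htS' : ∀ x ∈ S', x * t' = t' * x) (htt : t * t' = t' * t) :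
    ∃ a₁ a₂ K₁ K₂, Eqv Om s₁ a₁ ∧ Eqv Om s₂ a₂ ∧ CC Om a₁ a₂ ∧ Mem Om a₁ K₁ ∧ Mem Om a₂ K₂ ∧
      K₁ ∈ OmC Om (t * t') ∧ K₂ ∈ OmC Om (t * t') := by
  obtain ⟨a₁, K₁, e₁, hK₁, k₁⟩ := exists_member w hS hS' hs₁ hc₁ h₁ ht htS ht' htS' htt
  obtain ⟨a₂, K₂, e₂, hK₂, k₂⟩ := exists_member w hS hS' hs₂ hc₂ h₂ ht htS ht' htS' htt
  refine ⟨a₁, a₂, K₁, K₂, e₁, e₂, e₁.cc_left (e₂.cc_right (CS_cc w hS hs₁ hs₂ hne)), hK₁, hK₂, ⟨hK₁.1, ?_⟩,
    ⟨hK₂.1, ?_⟩⟩
  · intro k hk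
    rw [mem_centralizer_singleton_iff]
    exact (k₁ k hk).symm
  · intro k hk
    rw [mem_centralizer_singleton_iff]
    exact (k₂ k hk).symm

/-- the members in `S` centralise the central elements of `S` -/
theorem mem_OmC_of_le (hK : Mem Om a K) (hKS : K ≤ S) (htS : ∀ x ∈ S, x * t = t * x) : K ∈ OmC Om t :=
  ⟨hK.1, fun k hk => by
    rw [mem_centralizer_singleton_iff]
    exact htS k (hKS hk)⟩

end Cfsg.Agent.Cit.Nil.CompFour
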