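import Cfsg.Agent.Cit.Nil.CompFour.MM
import Cfsg.Agent.Cit.Nil.CompFour.TS

/-!
# S1309, node (n5): (C2) (helper320)

Text: section 4 of `blueprints/R18-6b-n5-helper449.md`.

* `LemB w` : LEMMA B as a statement;
* `TS_cj`, `CS_cj_mem` : `T_S` and conjugation;
* **`ctwo`** (C2).
-/

set_option autoImplicit false
set_option linter.style.haveILetI false
set_option linter.unusedSectionVars false

namespace Cfsg.Agent.Cit.Nil.CompFour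

open Subgroup Cfsg Cfsg.Agent.Cit Cfsg.Agent.Cit.Nil.RI Cfsg.Agent.Cit.Nil.IndDefs

open RG (WR CP Ov)

variable {G : Type*} [Group G] [Finite G] {Om : Set (Subgroup G)} {K L : Subgroup G} {a c s t t' u v x y z g : G}

/-- LEMMA B -/
def LemB (w : WE Om) : Prop := ∀ (e a₁ a₂ : G) (K₁ K₂ : Subgroup G), e * e = 1 → e ≠ 1 → Mem Om a₁ K₁ → Mem Om a₂ K₂ →
  K₁ ∈ OmC Om e → K₂ ∈ OmC Om e → CC Om a₁ a₂ → centralizer {e} ≤ MM w a₁

theorem CS_cj_mem (w : TB Om) {S : Subgroup G} (hx : x ∈ CS Om S) (g : G) : g * x * g⁻¹ ∈ CS Om (cj g S) := by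
  rw [cs_cj w]
  exact ⟨x, hx, rfl⟩

theorem TS_cj_mem (w : TB Om) {S : Subgroup G} (hx : x ∈ closure (CS Om S)) (g : G) :
    g * x * g⁻¹ ∈ closure (CS Om (cj g S)) := by
  have h1 : closure (CS Om S) ≤ cj g⁻¹ (closure (CS Om (cj g S))) := (closure_le _).2 fun u hu => by
    rw [SetLike.mem_coe, mem_cj, inv_inv]
    exact subset_closure (CS_cj_mem w hu g)
  have h2 := h1 hx
  rwa [mem_cj, inv_inv] at h2

/-- **(C2)** -/
theorem ctwo (w : WE Om) (lb : LemB w) (S : Sylow 2 G) (hz : z ∈ CS Om (S : Subgroup G)) {s₁ s₂ : G}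
    (hs₁ : s₁ ∈ CS Om (S : Subgroup G)) (hs₂ : s₂ ∈ CS Om (S : Subgroup G)) (hne : s₁ ≠ s₂)
    (ht : t ∈ closure (CS Om (S : Subgroup G))) (htS : ∀ x ∈ (S : Subgroup G), x * t = t * x) (hg : g ∈ MM w z)
    (htt : t * (g * t * g⁻¹) = g * t * g⁻¹ * t) (htn : g * t * g⁻¹ ≠ t) :
    centralizer {t * (g * t * g⁻¹)} ≤ MM w z := by
  haveI : Fact (Nat.Prime 2) := ⟨Nat.prime_two⟩
  have hS := S.isPGroup'
  obtain ⟨S', hS'⟩ : ∃ S' : Sylow 2 G, (S' : Subgroup G) = cj g (S : Subgroup G) := ⟨g • S, rfl⟩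
  have hz' : g * z * g⁻¹ ∈ CS Om (S' : Subgroup G) := by
    rw [hS']
    exact CS_cj_mem w.b hz g
  have key : ∀ s ∈ CS Om (S : Subgroup G), ∃ c ∈ CS Om (S' : Subgroup G), Eqv Om s c := by
    intro s hs
    refine exists_cs w S' hz' ?_
    exact SF.trans w (SF.symm hg) (cs_sf w.b hS hz hs)
  obtain ⟨c₁, hc₁, e₁⟩ := key s₁ hs₁
  obtain ⟨c₂, hc₂, e₂⟩ := key s₂ hs₂
  have ht' : g * t * g⁻¹ ∈ closure (CS Om (S' : Subgroup G)) := by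
    rw [hS']
    exact TS_cj_mem w.b ht g
  have htS' : ∀ x ∈ (S' : Subgroup G), x * (g * t * g⁻¹) = g * t * g⁻¹ * x := by
    intro x hx
    rw [hS', mem_cj] at hx
    have h1 := htS _ hx
    calc x * (g * t * g⁻¹) = g * ((g⁻¹ * x * g) * t) * g⁻¹ := by group
      _ = g * (t * (g⁻¹ * x * g)) * g⁻¹ := by rw [h1]
      _ = _ := by group
  obtain ⟨a₁, a₂, K₁, K₂, f₁, -, hcc, hK₁, hK₂, k₁, k₂⟩ :=
    exists_pair w.b hS S'.isPGroup' hs₁ hs₂ hne hc₁ hc₂ e₁ e₂ ht htS ht' htS' htt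
  have htt1 : t * t = 1 := TS_sq w.b hS ht
  have htt2 : g * t * g⁻¹ * (g * t * g⁻¹) = 1 := TS_sq w.b S'.isPGroup' ht'
  have hee : t * (g * t * g⁻¹) * (t * (g * t * g⁻¹)) = 1 := by
    obtain ⟨r, hr⟩ : ∃ r, r = g * t * g⁻¹ := ⟨_, rfl⟩
    rw [← hr] at htt htt2 ⊢
    calc t * r * (t * r) = t * (r * t) * r := by group
      _ = t * (t * r) * r := by rw [htt]
      _ = (t * t) * (r * r) := by group
      _ = 1 := by rw [htt1, htt2, one_mul]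
  have he1 : t * (g * t * g⁻¹) ≠ 1 := by
    intro h1
    apply htn
    have h2 : t * (g * t * g⁻¹) = t * t := h1.trans htt1.symm
    exact mul_left_cancel h2
  have h1 := lb _ a₁ a₂ K₁ K₂ hee he1 hK₁ hK₂ k₁ k₂ hcc
  have h2 : SF Om z a₁ := SF.trans w (cs_sf w.b hS hz hs₁) (Or.inr f₁)
  rwa [MM_eq w h2]

/-- (4.1), the end: `C(t) ≤ M_z` -/
theorem cent_t_le (w : WE Om) (lb : LemB w) {S : Subgroup G} (hS : IsPGroup 2 S) (hz : z ∈ CS Om S) {s₁ s₂ : G}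
    (hs₁ : s₁ ∈ CS Om S) (hs₂ : s₂ ∈ CS Om S) (hne : s₁ ≠ s₂) (htt : t * t = 1) (ht1 : t ≠ 1)
    (htS : ∀ x ∈ S, x * t = t * x) : centralizer {t} ≤ MM w z := by
  obtain ⟨K₁, hK₁, h₁⟩ := id hs₁
  obtain ⟨K₂, hK₂, h₂⟩ := id hs₂
  have h3 := lb t s₁ s₂ K₁ K₂ htt ht1 hK₁ hK₂ (mem_OmC_of_le w.b hK₁ h₁ htS) (mem_OmC_of_le w.b hK₂ h₂ htS)
    (cs_cc w.b hS hs₁ hs₂ hne)
  rwa [MM_eq w (cs_sf w.b hS hz hs₁)]

/-- (C1) for `M_z`: Lemma C as a hypothesis -/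
theorem cone (w : WE Om) (lb : LemB w) (lc : ∀ a₁ a₂, CC Om a₁ a₂ → centralizer {a₁ * a₂} ≤ MM w a₁)
    (S : Sylow 2 G) (hz : z ∈ CS Om (S : Subgroup G)) {s₁ s₂ : G}
    (hs₁ : s₁ ∈ CS Om (S : Subgroup G)) (hs₂ : s₂ ∈ CS Om (S : Subgroup G)) (hne : s₁ ≠ s₂)
    (ht : t ∈ closure (CS Om (S : Subgroup G))) (ht1 : t ≠ 1) (htS : ∀ x ∈ (S : Subgroup G), x * t = t * x)
    (hg : g * t * g⁻¹ ∈ MM w z) : g ∈ MM w z := by
  have hS := S.isPGroup'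
  have hzZ := cs_inZ hz
  have htt := TS_sq w.b hS ht
  have c : CntD Om (MM w z) {x | SF Om z x} :=
    { h := w.b.w.wr
      sig := fun x hx hxM => SF.of_mem w hzZ hx hxM
      p1 := fun x hx g hg => mem_MM_of w hx (SF.trans w (SF.symm hx) hg)
      lemC := fun u hu v hv huv g hg => by
        have hu' : SF Om z u := hu
        have h1 : CC Om u v := ⟨hu'.inZ w hzZ, SF.inZ w hv hzZ, huv⟩
        have h2 := lc u v h1 (mem_centralizer_singleton_iff.2 hg)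
        rwa [MM_eq w hu'] }
  refine c.mem S (sylow_le w hS hzZ (cs_mem w.b hz)) ?_ htt (fun x hx => ?_) hg
  · obtain ⟨K, hK, -⟩ := hz
    exact ⟨K, hK.1⟩
  · exact cent_t_le w lb hS hz hs₁ hs₂ hne htt ht1 htS (mem_centralizer_singleton_iff.2 hx)

end Cfsg.Agent.Cit.Nil.CompFour
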