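import Cfsg.Agent.Cit.Nil.CompFour.LemC

/-!
# S1309, node (n5): LEMMA A, B, C

They are in `CompFour/LemC.lean` (helper488).
-/
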