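import Cfsg.Agent.Cit.Nil.CompFour.LemC
import Cfsg.Agent.Cit.Nil.CompFour.CTwo
import Cfsg.Agent.Cit.Nil.CompFour.SE
import Cfsg.Agent.Cit.Nil.ROne.GraphB
import Cfsg.Agent.Cit.CloEnd
import Cfsg.Agent.TwoFusion.StronglyEmbeddedBasic
import Cfsg.Agent.TwoFusion.GoldNorm

/-!
# S1309, node (n5): the end of section 4

Text: `blueprints/R18-6b-n5-helper449.md`, section 4: (4.2), (4.3).
-/

set_option autoImplicit false
set_option linter.style.haveILetI false
set_option linter.unusedSectionVars false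

namespace Cfsg.Agent.Cit.Nil.CompFour

open Subgroup Cfsg Cfsg.Agent.Cit Cfsg.Agent.Cit.Nil.RI Cfsg.Agent.Cit.Nil.IndDefs

open RG (WR CP Ov)

variable {G : Type*} [Group G] [Finite G] {Om : Set (Subgroup G)} {K L M N P X : Subgroup G}
  {a b c d e s t u v x y z g h : G}

/-- two different elements of `CS(S)` -/
theorem exists_two_cs (w : WE Om) (S : Sylow 2 G) (hz : z ∈ CS Om (S : Subgroup G)) :
    ∃ s ∈ CS Om (S : Subgroup G), CC Om z s := by
  obtain ⟨a, ha⟩ := w.pt z (cs_inZ hz)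
  obtain ⟨s, hs, h1⟩ := exists_cs w S hz (Or.inl ha)
  exact ⟨s, hs, h1.cc_right ha⟩

/-- elements of `Σ(z)` fix the classes of `≡` in `Σ(z)` -/
theorem eqv_conj (w : WE Om) (hv : InZ Om v) (hu : InZ Om u) (h : SF Om v u) : Eqv Om u (v * u * v⁻¹) := by
  rcases h with h | h
  · have h1 : v * u * v⁻¹ = u := by rw [h.comm w.b, mul_inv_cancel_right]
    rw [h1]
    exact Eqv.refl u
  · obtain ⟨b, hb⟩ := w.pt v hv
    have hub : CC Om u b := h.cc_left hb
    have h1 := hub.conj w.b v
    have h2 : v * b * v⁻¹ = b := by rw [hb.comm w.b, mul_inv_cancel_right]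
    rw [h2] at h1
    rcases w.eq u b _ hub h1 with h3 | h3
    · exact (w.b.not_swap hv hu h3).elim
    · exact h3

/-- **(4.2)** -/
theorem not_le (w : WE Om) (f : ROne.FSimp X) (hz : InZ Om z) : ¬ X ≤ MM w z := by
  intro hX
  haveI := f.nor
  -- the kernel of the action on the classes
  have key : ∀ a, SF Om z a → ∀ x ∈ X, ∀ v, SF Om z v → Eqv Om v (x * v * x⁻¹) := by
    let N : Subgroup G :=
      { carrier := {x | ∀ v, SF Om z v → Eqv Om v (x * v * x⁻¹)}
        mul_mem' := by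
          intro x y hx hy v hv
          have h1 := hy v hv
          have h2 := hx _ (SF.trans w hv (Or.inr h1))
          have h3 : x * (y * v * y⁻¹) * x⁻¹ = x * y * v * (x * y)⁻¹ := by group
          rw [h3] at h2
          exact h1.trans h2
        one_mem' := by
          intro v _
          have h1 : 1 * v * 1⁻¹ = v := by group
          rw [h1]
          exact Eqv.refl v
        inv_mem' := by
          intro x hx v hv
          have h1 : x ∈ MM w z := by
            rw [mem_MM]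
            exact Or.inr (hx z (SF.refl z))
          have h2 : SF Om z (x⁻¹ * v * x⁻¹⁻¹) :=
            SF.trans w (inv_mem h1 : x⁻¹ ∈ MM w z) (SF.conj w.b hv x⁻¹)
          have h3 := hx _ h2
          have h4 : x * (x⁻¹ * v * x⁻¹⁻¹) * x⁻¹ = v := by group
          rw [h4] at h3
          exact h3.symm }
    have hN : X ≤ N := by
      refine f.le ?_ ?_
      · intro g hg x hx v hv
        have h1 : SF Om z (g⁻¹ * v * g⁻¹⁻¹) := SF.trans w (hX (inv_mem hg)) (SF.conj w.b hv g⁻¹)
        have h2 := (hx _ h1).conj w.b g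
        have h3 : g * (g⁻¹ * v * g⁻¹⁻¹) * g⁻¹ = v := by group
        have h4 : g * (x * (g⁻¹ * v * g⁻¹⁻¹) * x⁻¹) * g⁻¹ = g * x * g⁻¹ * v * (g * x * g⁻¹)⁻¹ := by group
        rwa [h3, h4] at h2
      · intro h
        have h1 : z ∈ N := fun v hv => eqv_conj w hz (hv.inZ w hz) hv
        rw [h] at h1
        exact hz.z1 w.b.w (mem_bot.1 h1)
    intro a _ x hx v hv
    exact hN hx v hv
  -- `X = ⟨v : v ≡ a⟩`
  have hcl : ∀ a, SF Om z a → X ≤ closure {v | Eqv Om a v} := by
    intro a ha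
    refine f.le ?_ ?_
    · intro g hg n hn
      induction hn using closure_induction with
      | mem v hv =>
        refine subset_closure ?_
        exact Eqv.trans hv (key a ha g hg v (SF.trans w ha (Or.inr hv)))
      | one =>
        rw [mul_one, mul_inv_cancel]
        exact one_mem _
      | mul p q _ _ hp hq =>
        have h1 : g * (p * q) * g⁻¹ = g * p * g⁻¹ * (g * q * g⁻¹) := by group
        rw [h1]
        exact mul_mem hp hq
      | inv p _ hp =>
        have h1 : g * p⁻¹ * g⁻¹ = (g * p * g⁻¹)⁻¹ := by group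
        rw [h1]
        exact inv_mem hp
    · intro h
      have h1 : a ∈ closure {v | Eqv Om a v} := subset_closure (Eqv.refl a)
      rw [h] at h1
      exact (ha.inZ w hz).z1 w.b.w (mem_bot.1 h1)
  obtain ⟨a, ha⟩ := w.pt z hz
  apply f.na
  intro x hx y hy
  have h1 := hcl z (SF.refl z) hx
  have h2 := hcl a (Or.inl ha) hy
  have h3 : closure {v | Eqv Om z v} ≤ centralizer (closure {v | Eqv Om a v} : Subgroup G) := by
    rw [closure_le]
    intro v hv
    have h4 : closure {v | Eqv Om a v} ≤ centralizer {v} := by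
      rw [closure_le]
      intro u hu
      rw [SetLike.mem_coe, mem_centralizer_singleton_iff]
      exact (Eqv.cc_right hu (Eqv.cc_left hv ha)).symm.comm w.b
    rw [SetLike.mem_coe, mem_centralizer_iff]
    intro u hu
    exact mem_centralizer_singleton_iff.1 (h4 hu)
  exact (mem_centralizer_iff.1 (h3 h1) y h2).symm

/-- **(4.3)**: the end, given (EQ) -/
theorem WE.false (w : WE Om) (hO : ∀ e : G, e * e = 1 → e ≠ 1 → ∀ N : Subgroup G, N ≤ centralizer {e} →
      centralizer {e} ≤ normalizer (N : Set G) → Odd (Nat.card N) → N = ⊥) (f : ROne.FSimp X)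
    (hZX : ∀ z, InZ Om z → z ∈ X) (hcrit : CloEnd.Crit1175 ↥X) (hne : Om.Nonempty) : False := by
  haveI : Fact (Nat.Prime 2) := ⟨Nat.prime_two⟩
  haveI := f.nor
  haveI := f.sim
  obtain ⟨S⟩ : Nonempty (Sylow 2 G) := inferInstance
  have hS := S.isPGroup'
  obtain ⟨z, hz⟩ := CS_nonempty w.b.w.wr hne S
  obtain ⟨s, hs, hzs⟩ := exists_two_cs w S hz
  have hzZ := cs_inZ hz
  obtain ⟨t, htc, ht1, htt, htS⟩ := exists_t w.b hS ⟨z, hz⟩
  have lC : ∀ a₁ a₂, CC Om a₁ a₂ → centralizer {a₁ * a₂} ≤ MM w a₁ := fun _ _ h => LemC.lemC w hO h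
  have lB : LemB w := LemC.lemB w hO
  have hct : centralizer {t} ≤ MM w z := cent_t_le w lB hS hz hz hs hzs.ne htt ht1 htS
  have htX : t ∈ X := by
    refine (closure_le X).2 ?_ htc
    intro c hc
    exact hZX c (cs_inZ hc)
  have htS' : t ∈ (S : Subgroup G) := TS_le w.b htc
  have hSM : (S : Subgroup G) ≤ MM w z := sylow_le w S.isPGroup' hzZ (cs_mem w.b hz)
  have hc1 : ∀ g : G, g * t * g⁻¹ ∈ MM w z → g ∈ MM w z := fun g hg => cone w lB lC S hz hz hs hzs.ne htc ht1 htS hg
  have ht2 : orderOf (⟨t, htX⟩ : ↥X) = 2 := by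
    refine orderOf_eq_prime ?_ ?_
    · rw [pow_two]; exact Subtype.ext htt
    · intro h; exact ht1 (congrArg Subtype.val h)
  obtain ⟨H, hH⟩ := hcrit ((MM w z).subgroupOf X) (fun h => not_le w f hzZ (subgroupOf_eq_top.1 h)) ⟨t, htX⟩ ht2
    (hSM htS') (by
      obtain ⟨T, hT⟩ := Cfsg.Agent.TwoFusion.Gold.exists_sylow_subgroupOf S (L := X) f.nor.isSubnormal
      have hm : ∀ x : ↥X, x ∈ T ↔ (x : G) ∈ (S : Subgroup G) := by
        intro x
        change x ∈ (T : Subgroup ↥X) ↔ _
        rw [hT, mem_subgroupOf]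
      refine ⟨T, (hm _).2 htS', fun s hs => ?_⟩
      exact Subtype.ext (htS s ((hm s).1 hs))) (fun g hg => hc1 g hg) (by
      intro g hg hne y hy
      have h1 : t * ((g : G) * t * (g : G)⁻¹) = ((g : G) * t * (g : G)⁻¹) * t := congrArg Subtype.val hg
      have h2 : (g : G) * t * (g : G)⁻¹ ≠ t := fun h => hne (Subtype.ext h)
      have h3 : (g : G) ∈ MM w z := hc1 _ (hct (mem_centralizer_singleton_iff.2 h1.symm))
      refine ctwo w lB S hz hz hs hzs.ne htc htS h3 h1 h2 ?_
      rw [mem_centralizer_singleton_iff] at hy ⊢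
      exact congrArg Subtype.val hy)
  obtain ⟨z', hz'⟩ := w.b.ti z hzZ
  refine SE.false_of_conj' (N := X) w.b.w hz' ?_ ?_ (hZX z hzZ) (hZX z' hz'.inT) ?_
  · rw [normalizer_eq_top_iff.2 f.nor]; exact le_top
  · rw [normalizer_eq_top_iff.2 f.nor]; exact le_top
  · intro x hx y hy hxx hx1 hyy hy1
    have h1 : ∀ x (hx : x ∈ X), x * x = 1 → x ≠ 1 → orderOf (⟨x, hx⟩ : ↥X) = 2 := by
      intro x hx hxx hx1
      refine orderOf_eq_prime ?_ ?_
      · rw [pow_two]; exact Subtype.ext hxx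
      · intro h; exact hx1 (congrArg Subtype.val h)
    obtain ⟨g, hg⟩ := isConj_iff.1 (Cfsg.Agent.TwoFusion.StronglyEmbeddedBasic.isConj_of_involutions hH ⟨x, hx⟩ ⟨y, hy⟩
      (h1 x hx hxx hx1) (h1 y hy hyy hy1))
    exact ⟨g, g.2, congrArg Subtype.val hg⟩

end Cfsg.Agent.Cit.Nil.CompFour
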