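import Cfsg.Agent.Cit.Nil.CompFour.MM
import Cfsg.Agent.Cit.TwoB.ZMod

/-!
# S1309, node (n5): LEMMAS A, B, C of `blueprints/R18-6b-n5-helper449.md`, section 4 (helper488)

* `lemA` : `e` an involution, members `K₁, K, K' ≤ C(e)` over `a₁, v, v'`, `(v, v')` of type I, `(a₁, v)` a C-pair: `C(e) ≤ M_v`;
* `lemC` : `(a₁, a₂)` a C-pair: `C(a₁ a₂) ≤ M_{a₁}`;
* `lemB` : `e` an involution, members `K₁, K₂ ≤ C(e)` over a C-pair `(a₁, a₂)`: `C(e) ≤ M_{a₁}`.
-/

set_option autoImplicit false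
set_option linter.style.haveILetI false
set_option linter.unusedSectionVars false

namespace Cfsg.Agent.Cit.Nil.CompFour.LemC

open Subgroup Cfsg Cfsg.Agent.Cit Cfsg.Agent.Cit.Nil.RI Cfsg.Agent.Cit.Nil.IndDefs Cfsg.Agent.Cit.Nil.CompFour

open RG (WR CP Ov)

variable {G : Type*} [Group G] [Finite G] {Om : Set (Subgroup G)} {K L M N P K1 K2 : Subgroup G}
  {a b c d e s t u v x y z g a1 a2 v' : G}

/-- members over `z` and over `x` which commute -/
theorem SF.of_cm (w : TB Om) (hK : Mem Om z K) (hL : Mem Om x L) (hc : Cm K L) : SF Om z x := by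
  by_cases hne : z = x
  · rw [hne]; exact SF.refl x
  · exact Or.inl (CC.of_cm w hK hL hne hc)

/-- a conjugate of a member in `C(e)` -/
theorem OmC_cj (w : WM Om) (hK : K ∈ OmC Om e) (hg : g ∈ centralizer {e}) : cj g K ∈ OmC Om e := by
  refine ⟨w.hyp.conj K hK.1 g, ?_⟩
  rintro _ ⟨k, hk, rfl⟩
  exact mul_mem (mul_mem hg (hK.2 hk)) (inv_mem hg)

section

variable (w : WE Om)

include w

/-- **LEMMA A** -/
theorem lemA (hee : e * e = 1) (he1 : e ≠ 1) (h1 : K1 ∈ OmC Om e) (hK1 : Mem Om a1 K1) (h2 : K ∈ OmC Om e)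
    (hK : Mem Om v K) (h3 : L ∈ OmC Om e) (hL : Mem Om v' L) (hti : TI Om v v') (hc : CC Om a1 v) :
    centralizer {e} ≤ MM w v := by
  intro g hg
  rw [mem_MM]
  have hKg := OmC_cj w.b.w h2 hg
  have hKg' : Mem Om (g * v * g⁻¹) (cj g K) := hK.cj w.b.w g
  rcases w.tp e hee he1 K h2 with h4 | h4
  · -- NIL
    rw [hK.2] at h4
    exact SF.of_two w.b (OT_two e) h4 ((mem_normalizer_iff.1 (OT_norm e hg) v).1 h4) hc.2.1 (hc.2.1.conj w.b.w g)
  · have h5 : L ∈ comp (OmC Om e) K := mem_comp_of mem_comp_self (w.b.adj hti hK hL h2 h3)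
    have h6 : K1 ∉ comp (OmC Om e) K := fun h6 =>
      false_of_one w.b h4 h6 mem_comp_self h5 hK1 hK hL hc hti
    by_cases h7 : cj g K ∈ comp (OmC Om e) K
    · have h8 : Cm (cj g K) K1 := cm_of_not_comp h7 h2 h1 h6
      exact SF.trans w (Or.inl hc.symm) (SF.symm (SF.of_cm w.b hKg' hK1 h8))
    · exact SF.of_cm w.b hK hKg' (cm_of_not_comp mem_comp_self h2 hKg h7)

/-- a C-pair `(a₁, a₂)` with a common C-partner: `C(a₁ a₂) ≤ M_{a₁}` -/
theorem lemC_three (hc : CC Om a1 a2) (h1 : CC Om v a1) (h2 : CC Om v a2) : centralizer {a1 * a2} ≤ MM w a1 := by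
  have haa : a1 * a2 = a2 * a1 := hc.comm w.b
  have e1 : a1 * a2 * (a1 * a2) = 1 := by
    calc a1 * a2 * (a1 * a2) = a1 * (a2 * a1) * a2 := by group
      _ = (a1 * a1) * (a2 * a2) := by rw [← haa]; group
      _ = 1 := by rw [hc.1.z2 w.b.w, hc.2.1.z2 w.b.w, one_mul]
  have e2 : a1 * a2 ≠ 1 := fun h => hc.ne (by
    rw [← hc.2.1.inv w.b.w, eq_inv_iff_mul_eq_one]; exact h)
  obtain ⟨v', hv'⟩ := w.b.ti v h1.1
  obtain ⟨K, hK⟩ := h1.1
  obtain ⟨L, hL⟩ := hv'.inT
  obtain ⟨K1, hK1⟩ := hc.1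
  have key : ∀ {u : G} {M : Subgroup G}, CC Om u a1 → CC Om u a2 → Mem Om u M → M ∈ OmC Om (a1 * a2) := by
    intro u M hu1 hu2 hM
    refine ⟨hM.1, fun m hm => ?_⟩
    rw [mem_centralizer_singleton_iff]
    have f1 := hu1.symm.z_rz w.b (hM.le_RZ hm)
    have f2 := hu2.symm.z_rz w.b (hM.le_RZ hm)
    rw [← mul_assoc, ← f1, mul_assoc, ← f2, ← mul_assoc]
  have h3 : K1 ∈ OmC Om (a1 * a2) := by
    refine ⟨hK1.1, fun m hm => ?_⟩
    rw [mem_centralizer_singleton_iff]
    have f1 := hK1.comm_z w.b.w hm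
    have f2 := hc.symm.z_rz w.b (hK1.le_RZ hm)
    rw [← mul_assoc, f1, mul_assoc, ← f2, ← mul_assoc]
  have h4 := lemA w e1 e2 h3 hK1 (key h1 h2 hK) hK (key (h1.blk w.b hv'.blk) (h2.blk w.b hv'.blk) hL) hL hv' h1.symm
  rwa [MM_eq w (Or.inl h1 : SF Om v a1)] at h4

omit w in
/-- a C-pair `(a₁, a₂)` without common C-partners: `C(a₁ a₂)` normalises `{a₁, a₂}`, by `Z*` modulo `a₁ a₂` -/
theorem star (w : TB Om) (hO : ∀ N : Subgroup G, N ≤ centralizer {a1 * a2} → centralizer {a1 * a2} ≤ normalizer (N : Set G) →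
      Odd (Nat.card N) → N = ⊥)
    (hc : CC Om a1 a2) (hno : ∀ v, CC Om v a1 → ¬ CC Om v a2) :
    ∀ g, g * (a1 * a2) = a1 * a2 * g → g * a1 * g⁻¹ = a1 ∨ g * a1 * g⁻¹ = a2 := by
  have haa : a1 * a2 = a2 * a1 := hc.comm w
  have q1 := hc.1.z2 w.w
  have q2 := hc.2.1.z2 w.w
  have e1 : a1 * a2 * (a1 * a2) = 1 := by
    calc a1 * a2 * (a1 * a2) = a1 * (a2 * a1) * a2 := by group
      _ = (a1 * a1) * (a2 * a2) := by rw [← haa]; group
      _ = 1 := by rw [q1, q2, one_mul]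
  have e2 : a1 * a2 ≠ 1 := fun h => hc.ne (by
    rw [← hc.2.1.inv w.w, eq_inv_iff_mul_eq_one]; exact h)
  have e3 : a1 ≠ a1 * a2 := fun h => hc.2.1.z1 w.w (mul_eq_left.1 h.symm)
  have hza : a1 * a2 * a1 = a2 := by rw [haa, mul_assoc, q1, mul_one]
  -- `R_{a₁}` is not centralised by `x`, `Blk x a₁`
  have hcx : ∀ {x a y : G}, InZ Om a → InZ Om x → Blk Om x a → x ≠ a → CC Om a y → CC Om a (y * x * a) → False := by
    intro x a y ha hx hb hne hy hy'
    obtain ⟨K, hK⟩ := ha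
    have h1 : ∀ k ∈ K, x * k = k * x := by
      intro k hk
      have f1 := hy.symm.z_rz w (hK.le_RZ hk)
      have f2 := hy'.symm.z_rz w (hK.le_RZ hk)
      have f3 : k * a = a * k := hK.comm_z w.w hk
      have f4 : y * (x * k) * a = y * (k * x) * a := by
        calc y * (x * k) * a = y * x * (k * a) := by group
          _ = y * x * (a * k) := by rw [f3]
          _ = (y * x * a) * k := by group
          _ = k * (y * x * a) := f2
          _ = (k * y) * x * a := by group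
          _ = (y * k) * x * a := by rw [f1]
          _ = _ := by group
      exact mul_left_cancel (mul_right_cancel f4)
    exact (CC.of_cent w hK hx hne.symm h1).not_blk w (hb.symm w.w)
  obtain ⟨O, hO1, hO2, hO3, hO4⟩ := TwoB.zstar_mod (C := centralizer {a1 * a2}) (z := a1 * a2) (t := a1)
    (mem_centralizer_singleton_iff.2 rfl) (fun c hc => mem_centralizer_singleton_iff.1 hc) e1 e2
    (mem_centralizer_singleton_iff.2 (by rw [hza, ← mul_assoc, q1, one_mul])) q1 (hc.1.z1 w.w) e3 (by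
      intro g hg hcomm
      rw [mem_centralizer_singleton_iff] at hg
      obtain ⟨x, hx⟩ : ∃ x, x = g * a1 * g⁻¹ := ⟨_, rfl⟩
      obtain ⟨x', hx'⟩ : ∃ x', x' = g * a2 * g⁻¹ := ⟨_, rfl⟩
      have hxx' : x * x' = a1 * a2 := by
        calc x * x' = g * (a1 * a2) * g⁻¹ := by rw [hx, hx']; group
          _ = a1 * a2 := by rw [hg, mul_inv_cancel_right]
      have hC : CC Om x x' := by rw [hx, hx']; exact hc.conj w g
      rw [← hx] at hcomm ⊢
      have q3 := hC.1.z2 w.w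
      rcases hcomm with h1 | h1
      · -- `x` commutes with `a₁`, so with `a₂`
        have hxh : x * (a1 * a2) = a1 * a2 * x := by
          rw [← hxx']
          rw [mul_assoc, ← hC.comm w]
        have h2 : x * a2 = a2 * x := by
          have h3 : a1 * (x * a2) = a1 * (a2 * x) := by
            calc a1 * (x * a2) = (a1 * x) * a2 := by group
              _ = (x * a1) * a2 := by rw [h1]
              _ = x * (a1 * a2) := by group
              _ = a1 * a2 * x := hxh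
              _ = _ := by group
          exact mul_left_cancel h3
        have hx'e : x' = x * a1 * a2 := by
          calc x' = x * (x * x') := by rw [← mul_assoc, q3, one_mul]
            _ = x * (a1 * a2) := by rw [hxx']
            _ = _ := by group
        by_cases hxa1 : x = a1
        · left; exact hxa1
        by_cases hxa2 : x = a2
        · right; rw [hza]; exact hxa2
        exfalso
        rcases w.cases hC.1 hc.1 h1 with h3 | h3
        · rcases w.cases hC.1 hc.2.1 h2 with h4 | h4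
          · exact hno x h3 h4
          · -- `Blk x a₂`
            have h5 : CC Om a2 x' := hC.blk w h4
            refine hcx (a := a2) (x := x) (y := a1) hc.2.1 hC.1 h4 hxa2 hc.symm ?_
            have h6 : x' = a1 * x * a2 := by rw [hx'e, h1]
            rwa [← h6]
        · have h5 : CC Om a1 x' := hC.blk w h3
          refine hcx (a := a1) (x := x) (y := a2) hc.1 hC.1 h3 hxa1 hc ?_
          have h6 : x' = a2 * x * a1 := by
            rw [hx'e, ← h2, mul_assoc, haa, ← mul_assoc]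
          rwa [← h6]
      · -- `x a₁ x⁻¹ = a₂`
        exfalso
        have h2 : x * a1 * x⁻¹ = a2 := by
          rw [mul_inv_eq_iff_eq_mul, h1]
          calc a1 * a2 * (a1 * x) = (a1 * a2 * a1) * x := by group
            _ = a2 * x := by rw [hza]
        exact w.not_swap hC.1 hc.1 (by rw [h2]; exact hc))
  have hbot := hO O hO1 (fun c hc => by
    rw [mem_normalizer_iff]
    intro x
    refine ⟨fun hx => hO3 c hc x hx, fun hx => ?_⟩
    have h2 := hO3 c⁻¹ (inv_mem hc) _ hx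
    have h3 : c⁻¹ * (c * x * c⁻¹) * c⁻¹⁻¹ = x := by group
    rwa [h3] at h2) hO2
  intro c hcc
  rcases hO4 c (mem_centralizer_singleton_iff.2 hcc) with h1 | h1 <;> rw [hbot, mem_bot] at h1
  · left
    rw [← hc.1.inv w.w, eq_inv_iff_mul_eq_one, hc.1.inv w.w]; exact h1
  · right
    have h3 : c * a1 * c⁻¹ * a1 = a1 * a2 := by
      rw [← mul_right_inj (a1 * a2), h1, e1]
    calc c * a1 * c⁻¹ = c * a1 * c⁻¹ * a1 * a1 := by rw [mul_assoc _ a1 a1, q1, mul_one]
      _ = a1 * a2 * a1 := by rw [h3]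
      _ = a2 := hza

/-- a C-pair `(a₁, a₂)` without common C-partners: `C(a₁ a₂) ≤ M_{a₁}` -/
theorem lemC_two (hO : ∀ N : Subgroup G, N ≤ centralizer {a1 * a2} → centralizer {a1 * a2} ≤ normalizer (N : Set G) →
      Odd (Nat.card N) → N = ⊥)
    (hc : CC Om a1 a2) (hno : ∀ v, CC Om v a1 → ¬ CC Om v a2) :
    centralizer {a1 * a2} ≤ MM w a1 := by
  intro c hcc
  rw [mem_MM]
  rcases star w.b hO hc hno c (mem_centralizer_singleton_iff.1 hcc) with h1 | h1 <;> rw [h1]
  · exact SF.refl a1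
  · exact Or.inl hc

/-- **LEMMA C** -/
theorem lemC (hO : ∀ e : G, e * e = 1 → e ≠ 1 → ∀ N : Subgroup G, N ≤ centralizer {e} →
      centralizer {e} ≤ normalizer (N : Set G) → Odd (Nat.card N) → N = ⊥)
    (hc : CC Om a1 a2) : centralizer {a1 * a2} ≤ MM w a1 := by
  by_cases hno : ∀ v, CC Om v a1 → ¬ CC Om v a2
  · refine lemC_two w ?_ hc hno
    have haa : a1 * a2 = a2 * a1 := hc.comm w.b
    have e1 : a1 * a2 * (a1 * a2) = 1 := by
      calc a1 * a2 * (a1 * a2) = a1 * (a2 * a1) * a2 := by group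
        _ = (a1 * a1) * (a2 * a2) := by rw [← haa]; group
        _ = 1 := by rw [hc.1.z2 w.b.w, hc.2.1.z2 w.b.w, one_mul]
    have e2 : a1 * a2 ≠ 1 := fun h => hc.ne (by
      rw [← hc.2.1.inv w.b.w, eq_inv_iff_mul_eq_one]; exact h)
    exact hO _ e1 e2
  · push Not at hno
    obtain ⟨v, h1, h2⟩ := hno
    exact lemC_three w hc h1 h2

/-- **LEMMA B** -/
theorem lemB_of (hC : centralizer {a1 * a2} ≤ MM w a1) (hee : e * e = 1) (he1 : e ≠ 1) (h1 : K1 ∈ OmC Om e)
    (hK1 : Mem Om a1 K1) (h2 : K2 ∈ OmC Om e) (hK2 : Mem Om a2 K2) (hc : CC Om a1 a2) :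
    centralizer {e} ≤ MM w a1 := by
  intro g hg
  rw [mem_MM]
  have hKg := OmC_cj w.b.w h1 hg
  have hKg' : Mem Om (g * a1 * g⁻¹) (cj g K1) := hK1.cj w.b.w g
  rcases w.tp e hee he1 K1 h1 with h4 | h4
  · rw [hK1.2] at h4
    exact SF.of_two w.b (OT_two e) h4 ((mem_normalizer_iff.1 (OT_norm e hg) a1).1 h4) hc.1 (hc.1.conj w.b.w g)
  · by_cases h7 : cj g K1 ∈ comp (OmC Om e) K1
    · by_cases h6 : K2 ∈ comp (OmC Om e) K1
      · have h8 := h4 K1 mem_comp_self K2 h6 (hc.cm w.b hK1 hK2) _ h7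
        rw [hK1.2, hK2.2] at h8
        have h9 : g * a1 * g⁻¹ ∈ MM w a1 := by
          apply hC
          rw [mem_centralizer_singleton_iff]
          exact (h8 _ (hKg'.zmem w.b.w)).symm
        exact SF.of_mem w hc.1 (hc.1.conj w.b.w g) h9
      · have h8 : Cm (cj g K1) K2 := cm_of_not_comp h7 h1 h2 h6
        exact SF.trans w (Or.inl hc) (SF.symm (SF.of_cm w.b hKg' hK2 h8))
    · exact SF.of_cm w.b hK1 hKg' (cm_of_not_comp mem_comp_self h1 hKg h7)

/-- **LEMMA B**, in helper449's form -/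
theorem lemB (hO : ∀ e : G, e * e = 1 → e ≠ 1 → ∀ N : Subgroup G, N ≤ centralizer {e} →
      centralizer {e} ≤ normalizer (N : Set G) → Odd (Nat.card N) → N = ⊥) :
    ∀ (e a1 a2 : G) (K1 K2 : Subgroup G), e * e = 1 → e ≠ 1 → Mem Om a1 K1 → Mem Om a2 K2 → K1 ∈ OmC Om e →
      K2 ∈ OmC Om e → CC Om a1 a2 → centralizer {e} ≤ MM w a1 := fun _ _ _ _ _ hee he1 hK1 hK2 h1 h2 hc =>
  lemB_of w (lemC w hO hc) hee he1 h1 hK1 h2 hK2 hc

end

end Cfsg.Agent.Cit.Nil.CompFour.LemC
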