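import Cfsg.Agent.Cit.Nil.CompFour.Base
import Cfsg.Agent.Cit.Nil.RI.Closed

/-!
# S1309, node (n5): `SF`, the subgroups `M_z`

Text: `blueprints/R18-6b-n5-helper449.md`, section 3.

* `WE Om` : `TB Om`, `TPr Om`, `EQ Om`, every `z` has a C-partner;
* `SF Om z x` : C-pair or the same C-partners: an equivalence relation on `Z`;
* `MM w z = M_z = {g | SF z (g z g⁻¹)}`, `MM_eq`, `cent_le`;
* (3.3) `SF.of_mem`; (3.4) `mem_of_conj`; (3.5) `exists_cs`.
-/

set_option autoImplicit false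
set_option linter.style.haveILetI false
set_option linter.unusedSectionVars false

namespace Cfsg.Agent.Cit.Nil.CompFour

open Subgroup Cfsg Cfsg.Agent.Cit Cfsg.Agent.Cit.Nil.RI Cfsg.Agent.Cit.Nil.IndDefs

open RG (WR CP Ov)

variable {G : Type*} [Group G]

/-- the world with (EQ) -/
structure WE (Om : Set (Subgroup G)) : Prop where
  b : TB Om
  tp : TPr Om
  eq : EQ Om
  pt : ∀ z, InZ Om z → ∃ a, CC Om z a

/-- C-pair or the same C-partners -/
def SF (Om : Set (Subgroup G)) (z x : G) : Prop := CC Om z x ∨ Eqv Om z x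

variable {Om : Set (Subgroup G)} {K L M N P : Subgroup G} {a b c d e s t u v x y z g h : G}

theorem Eqv.inZ (w : WE Om) (h : Eqv Om z x) (hz : InZ Om z) : InZ Om x := by
  obtain ⟨a, ha⟩ := w.pt z hz
  exact ((h a).1 ha).1

namespace SF

theorem refl (z : G) : SF Om z z := Or.inr (Eqv.refl z)

theorem symm (h : SF Om z x) : SF Om x z := h.imp CC.symm Eqv.symm

theorem trans (w : WE Om) (h : SF Om z x) (h' : SF Om x y) : SF Om z y := by
  rcases h with h | h <;> rcases h' with h' | h'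
  · exact w.eq z x y h h'.symm
  · exact Or.inl (h'.cc_right h)
  · exact Or.inl (h.symm.cc_left h')
  · exact Or.inr (h.trans h')

theorem inZ (w : WE Om) (h : SF Om z x) (hz : InZ Om z) : InZ Om x := by
  rcases h with h | h
  · exact h.2.1
  · exact h.inZ w hz

theorem conj [Finite G] (w : TB Om) (h : SF Om z x) (g : G) : SF Om (g * z * g⁻¹) (g * x * g⁻¹) :=
  h.imp (fun h => h.conj w g) (fun h => h.conj w g)

theorem of_blk [Finite G] (w : TB Om) (h : Blk Om z x) : SF Om z x := Or.inr (Eqv.of_blk w h)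

/-- commuting elements -/
theorem of_comm [Finite G] (w : TB Om) (hz : InZ Om z) (hx : InZ Om x) (h : z * x = x * z) : SF Om z x := by
  rcases w.cases hz hx h with h1 | h1
  · exact Or.inl h1
  · exact of_blk w h1

/-- elements of a 2-group -/
theorem of_two [Finite G] (w : TB Om) (hP : IsPGroup 2 P) (hz : z ∈ P) (hx : x ∈ P) (hz' : InZ Om z) (hx' : InZ Om x) :
    SF Om z x := by
  rcases w.cases_two hP hz hx hz' hx' with h1 | h1
  · exact Or.inl h1
  · exact of_blk w h1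

end SF

variable [Finite G]

/-- `M_z` -/
def MM (w : WE Om) (z : G) : Subgroup G where
  carrier := {g | SF Om z (g * z * g⁻¹)}
  mul_mem' := by
    intro g h hg hh
    have h1 := SF.conj w.b hh g
    have h2 : g * (h * z * h⁻¹) * g⁻¹ = g * h * z * (g * h)⁻¹ := by group
    rw [h2] at h1
    exact SF.trans w hg h1
  one_mem' := by
    have h1 : (1 : G) * z * 1⁻¹ = z := by group
    change SF Om z (1 * z * 1⁻¹)
    rw [h1]
    exact SF.refl z
  inv_mem' := by
    intro g hg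
    have h1 := SF.conj w.b (SF.symm hg) g⁻¹
    have h2 : g⁻¹ * (g * z * g⁻¹) * g⁻¹⁻¹ = z := by group
    rw [h2] at h1
    exact h1

variable (w : WE Om)

theorem mem_MM : g ∈ MM w z ↔ SF Om z (g * z * g⁻¹) := Iff.rfl

include w

theorem mem_MM_of (h : SF Om z x) (h' : SF Om x (g * x * g⁻¹)) : g ∈ MM w z := by
  rw [mem_MM]
  exact SF.trans w (SF.trans w h h') (SF.conj w.b h.symm g)

/-- `M_z = M_x` -/
theorem MM_eq (h : SF Om z x) : MM w z = MM w x := by
  ext g
  constructor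
  · intro hg
    exact mem_MM_of w h.symm hg
  · intro hg
    exact mem_MM_of w h hg

theorem self_mem_MM : z ∈ MM w z := by
  rw [mem_MM, mul_inv_cancel_right]
  exact SF.refl z

/-- `C(x) ≤ M_z` -/
theorem cent_le (h : SF Om z x) : centralizer {x} ≤ MM w z := by
  intro g hg
  rw [mem_centralizer_singleton_iff] at hg
  refine mem_MM_of w h ?_
  rw [hg, mul_inv_cancel_right]
  exact SF.refl x

/-- `x ∈ M_z` if `SF z x` -/
theorem mem_MM_of_SF (h : SF Om z x) : x ∈ MM w z := by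
  rw [MM_eq w h]
  exact self_mem_MM w

/-- **(3.3)** -/
theorem SF.of_mem (hz : InZ Om z) (hx : InZ Om x) (hxM : x ∈ MM w z) : SF Om z x := by
  haveI : Fact (Nat.Prime 2) := ⟨Nat.prime_two⟩
  have hp : ∀ {y : G}, InZ Om y → y ∈ MM w z → ∃ S : Sylow 2 ↥(MM w z), ∀ h : y ∈ MM w z, (⟨y, h⟩ : ↥(MM w z)) ∈ S := by
    intro y hy hyM
    have h1 : IsPGroup 2 (zpowers (⟨y, hyM⟩ : ↥(MM w z))) := by
      refine IsPGroup.of_card (n := 1) ?_
      rw [Nat.card_zpowers, pow_one]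
      refine orderOf_eq_prime ?_ ?_
      · rw [pow_two]; exact Subtype.ext (hy.z2 w.b.w)
      · intro h; exact hy.z1 w.b.w (congrArg Subtype.val h)
    obtain ⟨S, hS⟩ := h1.exists_le_sylow
    exact ⟨S, fun _ => hS (mem_zpowers _)⟩
  obtain ⟨S, hS⟩ := hp hz (self_mem_MM w)
  obtain ⟨T, hT⟩ := hp hx hxM
  obtain ⟨m, hm⟩ := MulAction.exists_smul_eq ↥(MM w z) S T
  have h2 : m * ⟨z, self_mem_MM w⟩ * m⁻¹ ∈ (T : Subgroup ↥(MM w z)) := by
    rw [← hm, Sylow.coe_subgroup_smul]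
    exact Subgroup.smul_mem_pointwise_smul _ (MulAut.conj m) _ (hS _)
  have hP : IsPGroup 2 ((T : Subgroup ↥(MM w z)).map (MM w z).subtype) := T.isPGroup'.map _
  have h3 : (m : G) * z * (m : G)⁻¹ ∈ (T : Subgroup ↥(MM w z)).map (MM w z).subtype := ⟨_, h2, rfl⟩
  have h4 : x ∈ (T : Subgroup ↥(MM w z)).map (MM w z).subtype := ⟨_, hT hxM, rfl⟩
  exact SF.trans w m.2 (SF.of_two w.b hP h3 h4 (hz.conj w.b.w _) hx)

/-- **(3.4)** -/
theorem mem_of_conj (hz : InZ Om z) (h : SF Om z x) (hg : g * x * g⁻¹ ∈ MM w z) : g ∈ MM w z :=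
  mem_MM_of w h (SF.trans w h.symm (SF.of_mem w hz ((h.inZ w hz).conj w.b.w g) hg))

/-- a Sylow subgroup containing `z` lies in `M_z` -/
theorem sylow_le {S : Subgroup G} (hS : IsPGroup 2 S) (hz : InZ Om z) (hzS : z ∈ S) : S ≤ MM w z := by
  intro s hs
  rw [mem_MM]
  exact SF.of_two w.b hS hzS (mul_mem (mul_mem hs hzS) (inv_mem hs)) hz (hz.conj w.b.w s)

omit w

/-! ### `CS(S)` -/

theorem cs_inZ {S : Subgroup G} (hz : z ∈ CS Om S) : InZ Om z := by
  obtain ⟨K, hK, -⟩ := hz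
  exact ⟨K, hK⟩

theorem cs_mem (w : TB Om) {S : Subgroup G} (hz : z ∈ CS Om S) : z ∈ S := by
  obtain ⟨K, hK, hKS⟩ := hz
  exact hKS (Mem.zmem (Om := Om) hK w.w)

/-- different elements of `CS(S)` -/
theorem cs_cc (w : TB Om) {S : Subgroup G} (hS : IsPGroup 2 S) (hz : z ∈ CS Om S) (hu : u ∈ CS Om S) (hne : z ≠ u) :
    CC Om z u := ⟨cs_inZ hz, cs_inZ hu, CS_cp w.w.wr hS hz hu hne⟩

theorem cs_conj (w : TB Om) {S : Subgroup G} (hz : z ∈ CS Om S) (hs : s ∈ S) : s * z * s⁻¹ ∈ CS Om S :=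
  CS_conj w.w.wr hz hs

theorem cs_cj (w : TB Om) (S : Subgroup G) (g : G) : CS Om (cj g S) = (fun x => g * x * g⁻¹) '' CS Om S := by
  have key : ∀ (S : Subgroup G) (g x : G), x ∈ CS Om S → g * x * g⁻¹ ∈ CS Om (cj g S) := by
    rintro S g x ⟨K, hK, hKS⟩
    exact ⟨cj g K, Mem.cj (Om := Om) hK w.w g, cj_mono g hKS⟩
  ext x
  constructor
  · intro hx
    have h1 := key _ g⁻¹ x hx
    have h2 : cj g⁻¹ (cj g S) = S := by rw [← cj_mul, inv_mul_cancel, cj_one]
    rw [h2] at h1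
    refine ⟨_, h1, ?_⟩
    change g * (g⁻¹ * x * g⁻¹⁻¹) * g⁻¹ = x
    group
  · rintro ⟨y, hy, rfl⟩
    exact key _ g y hy

theorem cs_ncard (w : TB Om) (S T : Sylow 2 G) : (CS Om (S : Subgroup G)).ncard = (CS Om (T : Subgroup G)).ncard := by
  haveI : Fact (Nat.Prime 2) := ⟨Nat.prime_two⟩
  obtain ⟨g, hg⟩ := MulAction.exists_smul_eq G S T
  have h1 : (T : Subgroup G) = cj g (S : Subgroup G) := by rw [← hg]; rfl
  rw [h1, cs_cj w]
  exact (Set.ncard_image_of_injective _ fun u v huv => mul_left_cancel (mul_right_cancel huv)).symm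

/-- **(3.5)** every class in `Σ(z)` meets `CS(S)` -/
theorem exists_cs (w : WE Om) (S : Sylow 2 G) (hz : z ∈ CS Om (S : Subgroup G)) (hu : SF Om z u) :
    ∃ s ∈ CS Om (S : Subgroup G), Eqv Om u s := by
  haveI : Fact (Nat.Prime 2) := ⟨Nat.prime_two⟩
  by_contra hn
  push Not at hn
  have hzZ := cs_inZ hz
  have huZ := hu.inZ w hzZ
  have h1 : ∀ s ∈ CS Om (S : Subgroup G), CC Om u s := by
    intro s hs
    have h2 : SF Om z s := by
      by_cases hne : z = s
      · rw [hne]; exact SF.refl s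
      · exact Or.inl (cs_cc w.b S.isPGroup' hz hs hne)
    rcases SF.trans w hu.symm h2 with h3 | h3
    · exact h3
    · exact (hn s hs h3).elim
  obtain ⟨K, hK⟩ := huZ
  obtain ⟨H, hH⟩ : ∃ H : Subgroup G, H = sSup {L | L ∈ Om ∧ L ≤ (S : Subgroup G)} := ⟨_, rfl⟩
  have hHS : H ≤ (S : Subgroup G) := by rw [hH]; exact sSup_le fun L hL => hL.2
  have hKH : K ≤ centralizer (H : Set G) := by
    intro k hk
    have h3 : H ≤ centralizer {k} := by
      rw [hH]
      refine sSup_le fun L hL l hl => ?_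
      rw [mem_centralizer_singleton_iff]
      have h4 := h1 (zz L) ⟨L, ⟨hL.1, rfl⟩, hL.2⟩
      exact (h4.rz w.b (hK.le_RZ hk) (Mem.le_RZ (Om := Om) ⟨hL.1, rfl⟩ hl)).symm
    rw [mem_centralizer_iff]
    intro x hx
    exact mem_centralizer_singleton_iff.1 (h3 hx)
  have hP : IsPGroup 2 (H ⊔ K : Subgroup G) :=
    IsPGroup.to_sup_of_normal_left' (S.isPGroup'.to_le hHS) (w.b.w.isPGroup hK.1)
      (hKH.trans (Subgroup.centralizer_le_normalizer _))
  obtain ⟨T, hT⟩ := hP.exists_le_sylow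
  have h5 : insert u (CS Om (S : Subgroup G)) ⊆ CS Om (T : Subgroup G) := by
    intro y hy
    rcases Set.mem_insert_iff.1 hy with rfl | hy
    · exact ⟨K, hK, le_sup_right.trans hT⟩
    · obtain ⟨L, hL, hLS⟩ := hy
      refine ⟨L, hL, le_trans ?_ (le_sup_left.trans hT)⟩
      rw [hH]
      exact le_sSup ⟨hL.1, hLS⟩
  have h6 : u ∉ CS Om (S : Subgroup G) := fun h => hn u h (Eqv.refl u)
  have h7 := Set.ncard_le_ncard h5 (Set.toFinite _)
  rw [Set.ncard_insert_of_notMem h6 (Set.toFinite _), ← cs_ncard w.b S T] at h7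
  omega

/-- `Z ∩ M_z` and `C_S`: an element of `CS(S)` with `SF` -/
theorem cs_sf (w : TB Om) {S : Subgroup G} (hS : IsPGroup 2 S) (hz : z ∈ CS Om S) (hu : u ∈ CS Om S) : SF Om z u := by
  by_cases hne : z = u
  · rw [hne]; exact SF.refl u
  · exact Or.inl (cs_cc w hS hz hu hne)

end Cfsg.Agent.Cit.Nil.CompFour
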