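import Cfsg.Agent.Cit.Nil.CompFour.Base

/-!
# S1309, node (n5): the world of section 5 (no 3-clique, (EQ) false)

Text: `blueprints/R18-6b-n5-helper449.md`, section 5.
-/

set_option autoImplicit false
set_option linter.unusedSectionVars false

namespace Cfsg.Agent.Cit.Nil.CompFour

open Subgroup Cfsg Cfsg.Agent.Cit Cfsg.Agent.Cit.Nil.RI Cfsg.Agent.Cit.Nil.IndDefs

variable {G : Type*} [Group G]

/-- no 3-clique, and the C-partners of `c` are not in one block -/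
structure NC (Om : Set (Subgroup G)) : Prop where
  b : TB Om
  tp : TPr Om
  m2 : ∀ x y v, CC Om x y → CC Om x v → CC Om y v → False
  nb : ∀ c, InZ Om c → ∃ v v', CC Om c v ∧ CC Om c v' ∧ ¬ Blk Om v v'
  nq : ∀ c, InZ Om c → ∃ v v', CC Om c v ∧ CC Om c v' ∧ ¬ Eqv Om v v'
  cd : ∀ c d, InZ Om c → InZ Om d → {v | CC Om c v}.ncard = {v | CC Om d v}.ncard
  /-- `Z` is one class -/
  cls : ∀ c d, InZ Om c → InZ Om d → ∃ g : G, g * c * g⁻¹ = d

variable [Finite G] {Om : Set (Subgroup G)}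

/-- the world of section 5 if (EQ) is false -/
theorem NC.of (w : TB Om) (tp : TPr Om) (m2 : ∀ x y v, CC Om x y → CC Om x v → CC Om y v → False)
    (cls : ∀ c d, InZ Om c → InZ Om d → ∃ g : G, g * c * g⁻¹ = d) (hn : ¬ EQ Om) : NC Om := by
  have key : ∀ (c : G) (g : G), {v | CC Om (g * c * g⁻¹) v} = (fun x => g * x * g⁻¹) '' {v | CC Om c v} := by
    intro c g
    ext v
    constructor
    · intro hv
      have h1 := CC.conj w (show CC Om (g * c * g⁻¹) v from hv) g⁻¹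
      have h2 : g⁻¹ * (g * c * g⁻¹) * g⁻¹⁻¹ = c := by group
      rw [h2] at h1
      refine ⟨_, h1, ?_⟩
      change g * (g⁻¹ * v * g⁻¹⁻¹) * g⁻¹ = v
      group
    · rintro ⟨u, hu, rfl⟩
      exact CC.conj w (show CC Om c u from hu) g
  have hex : ∃ z a x, CC Om z a ∧ CC Om x a ∧ ¬ Eqv Om z x := by
    unfold EQ at hn
    push Not at hn
    obtain ⟨z, a, x, h1, h2, -, h3⟩ := hn
    exact ⟨z, a, x, h1, h2, h3⟩
  obtain ⟨z, a, x, hza, hxa, hzx⟩ := hex
  have nq : ∀ c, InZ Om c → ∃ v v', CC Om c v ∧ CC Om c v' ∧ ¬ Eqv Om v v' := by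
    intro c hc
    obtain ⟨g, rfl⟩ := cls a c hza.2.1 hc
    refine ⟨_, _, CC.conj w hza.symm g, CC.conj w hxa.symm g, fun h => hzx ?_⟩
    have h1 := Eqv.conj w h g⁻¹
    have h2 : ∀ y : G, g⁻¹ * (g * y * g⁻¹) * g⁻¹⁻¹ = y := fun y => by group
    rwa [h2, h2] at h1
  refine ⟨w, tp, m2, fun c hc => ?_, nq, ?_, cls⟩
  · obtain ⟨v, v', h1, h2, h3⟩ := nq c hc
    exact ⟨v, v', h1, h2, fun h => h3 (Eqv.of_blk w h)⟩
  · intro c d hc hd
    obtain ⟨g, rfl⟩ := cls c d hc hd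
    rw [key]
    exact (Set.ncard_image_of_injective _ fun u v huv => mul_left_cancel (mul_right_cancel huv)).symm

end Cfsg.Agent.Cit.Nil.CompFour
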