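import Cfsg.Agent.Cit.Nil.CompFour.Asm
import Cfsg.Agent.Cit.Nil.SCK

/-!
# S1309: `Node 4`
-/

set_option autoImplicit false

namespace Cfsg.Agent.Cit.Nil.CompFour

universe u

/-- **`Node 4`** -/
theorem node_four (i : RTwo.LIn.{u}) (hev : ∀ (H : Type u) [Group H] [Finite H], Comp.EvQ H) : SCMain.Node.{u} 4 :=
  fun _ _ _ _ w h4 => false_of_scw i hev w.scw w.free h4

end Cfsg.Agent.Cit.Nil.CompFour
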