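import Cfsg.Agent.Cit.Nil.CompFour.NC
import Cfsg.Agent.Cit.Nil.RTwo.TenO

/-!
# S1309, node (n5), section 5: the component of `B` (interface, helper488)

`SL Om a B L` : `B` contains the members over the C-partners of `a`, `L` is the component of `B`.
-/

set_option autoImplicit false
set_option linter.unusedSectionVars false

namespace Cfsg.Agent.Cit.Nil.CompFour

open Subgroup Cfsg Cfsg.Agent.Cit

/-- see the head of the file -/
structure SL {G : Type*} [Group G] (Om : Set (Subgroup G)) (a : G) (B L : Subgroup G) : Prop where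
  C : RTwo.CompOf B L
  Ba : B ≤ centralizer {a}
  nor : B ≤ normalizer (L : Set G)
  mem : ∀ K ∈ Om, CC Om a (zz K) → K ≤ B
  zL : ∀ K ∈ Om, CC Om a (zz K) → zz K ∈ L
  cen : ∀ x ∈ L, (∀ l ∈ L, x * l = l * x) → ∀ b ∈ B, x * b = b * x

end Cfsg.Agent.Cit.Nil.CompFour
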