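import Cfsg.Agent.Cit.Nil.CompFour.SecComp
import Cfsg.Agent.Cit.Nil.CompFour.SecL

/-!
# S1309, node (n5), section 5: the end

`NC.false_713` (duplicate of `Sec.lean`, helper488) : the world `NC` (no 3-clique, (EQ) false) is impossible (`O(C(a)) = 1` for one `a ∈ Z`, S1175).
-/

set_option autoImplicit false
set_option linter.unusedSectionVars false

namespace Cfsg.Agent.Cit.Nil.CompFour

open Subgroup Cfsg Cfsg.Agent.Cit Cfsg.Agent.Cit.Nil.RI Cfsg.Agent.Cit.Nil.IndDefs
open Cfsg.Agent.Cit.Comp (EvQ)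

universe u

variable {G : Type u} [Group G] [Finite G] {Om : Set (Subgroup G)} {a : G}

theorem NC.five_713 (n : NC Om) : Five Om := fun _ _ _ _ _ hc he hee he1 hK hKe hL hLe => n.five hc he hee he1 hK hKe hL hLe

/-- **section 5** -/
theorem NC.false_713 (n : NC Om) (ha : InZ Om a) (hcore : oddCore ↥(centralizer ({a} : Set G)) = ⊥)
    (hev : ∀ (H : Type u) [Group H] [Finite H], EvQ H)
    (hcrit : ∀ (X : Type u) [Group X] [Finite X] [IsSimpleGroup X], CloEnd.Crit1175 X) : False := by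
  obtain ⟨B, L, S⟩ := n.exists_sl ha hcore hev
  obtain ⟨z, x, hz, hx, hne⟩ := n.nq a ha
  haveI : IsSimpleGroup (↥L ⧸ center ↥L) := S.C.q.2
  exact S.false_of n n.five_713 (hcrit _) hz hx hne

end Cfsg.Agent.Cit.Nil.CompFour
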