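import Cfsg.Agent.Cit.Nil.CompFour.Bridge
import Cfsg.Agent.Cit.Nil.CompFour.NoThree

/-!
# S1309 (n5): `TPr` for one class of members

* `tstat_sub` : `T'` for `C(e)` and a subfamily `Om` of the family `Om₀` of `SCW`;
* `tpr_sub` : `TPr Om`, if no member of `OmC Om e` has `ThreeIn`;
* **`tpr_class`** : `TPr Om` for `WM Om` with type I partners (THREE is excluded by `RI.three_of_cent`).
-/

set_option autoImplicit false
set_option linter.style.haveILetI false
set_option linter.unusedSectionVars false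

namespace Cfsg.Agent.Cit.Nil.CompFour

open Subgroup Cfsg Cfsg.Agent.Cit Cfsg.Agent.Cit.Nil.RI
open Cfsg.Agent.Cit.Nil.IndDefs
open Cfsg.Agent.Cit.Nil.CompR (restr_t0)

universe u

variable {G : Type u} [Group G] [Finite G] {Om Om₀ : Set (Subgroup G)} {K L M : Subgroup G} {e : G}

/-- `T'` for `C(e)` and a subfamily -/
theorem tstat_sub (w : SCW G Om₀) (hyp : Hyp Om) (card : ∀ K ∈ Om, Nat.card K = 8) (he : e ≠ 1)
    (hc : Cfsg.pPrimeCore 2 ↥(centralizer {e}) = ⊥) : ∀ K ∈ restr Om (centralizer {e}), TStat (restr Om (centralizer {e})) K := by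
  have f := ROne.fsimp_of w.simple w.na
  have hlt : Nat.card ↥(centralizer {e}) < Nat.card G := by
    refine lt_of_le_of_ne (Subgroup.card_le_card_group _) fun h1 => he ?_
    have h2 : centralizer {e} = ⊤ := Subgroup.eq_top_of_card_eq _ h1
    rw [← Subgroup.mem_bot, ← f.cen, mem_centralizer_iff]
    intro y _
    have h4 : y ∈ centralizer {e} := by rw [h2]; exact mem_top y
    exact mem_centralizer_singleton_iff.1 h4
  exact w.ih _ _ hlt (restr_t0 ⟨hyp, card, w.t0.core⟩ hc)

theorem core_cent (core : ∀ t : G, orderOf t = 2 → centralizerPPrimeCore 2 t = ⊥) (hee : orderOf e = 2) :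
    Cfsg.pPrimeCore 2 ↥(centralizer ({e} : Set G)) = ⊥ :=
  (Subgroup.map_eq_bot_iff_of_injective _ (Subgroup.subtype_injective _)).1 (core e hee)

theorem tpr_sub (w : SCW G Om₀) (core : ∀ t : G, orderOf t = 2 → centralizerPPrimeCore 2 t = ⊥)
    (hyp : Hyp Om) (card : ∀ K ∈ Om, Nat.card K = 8)
    (no : ∀ e : G, e * e = 1 → e ≠ 1 → ∀ K ∈ OmC Om e, ¬ ThreeIn (centralizer {e}) K) : TPr Om := by
  intro e hee he K hK
  have hc := core_cent core (orderOf_eq_prime (by rw [pow_two]; exact hee) he)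
  rcases bridge hyp hK (tstat_sub w hyp card he hc _ (subgroupOf_mem_restr hK.1 hK.2)) with h | h | ⟨K₁, h1, h3⟩
  · exact Or.inl h
  · exact Or.inr h
  · exact absurd h3 (no e hee he K₁ (comp_sub hK h1))

/-- **`TPr` for a class with type I pairs** -/
theorem tpr_class (w : SCW G Om₀) (core : ∀ t : G, orderOf t = 2 → centralizerPPrimeCore 2 t = ⊥)
    (hs : Om ⊆ Om₀) (h : WM Om) (hT : ∀ z, InZ Om z → ∃ t, TI Om z t) : TPr Om := by
  intro e hee he K hK
  have hc := core_cent core (orderOf_eq_prime (by rw [pow_two]; exact hee) he)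
  have h1 := subgroupOf_mem_restr hK.1 hK.2
  have hT' := tstat_sub w h.hyp h.card he hc
  rcases hT' _ h1 with h4 | h4 | ⟨K₁, h5, h6⟩
  · exact Or.inl (nil_of h.hyp hK h4)
  · exact Or.inr (one_of h.hyp hK h4)
  · exfalso
    have h7 := comp_sub h1 h5
    refine w.three _ (hs h7) (three_of_cent h hT (fun K hK => ?_) hee h7 h6)
    exact core_cent core (h.hyp.orderOf_zz hK)

end Cfsg.Agent.Cit.Nil.CompFour
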